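import Cfsg.Agent.H7.Mult3
import Cfsg.Agent.H7.Li.Sm

set_option autoImplicit false
set_option maxRecDepth 100000

universe u

open scoped Pointwise

namespace CfsgH7.A5mT

noncomputable def e0 : Tr := (Tr.leaf (nat_lit 0x154ae17e005b2451e04409dd5e0548284de012a9813e0120218fe00391047e003088cbe03101443e04188409e01000c05e00090041e0))

noncomputable def j0 : Tr := (Tr.leaf (nat_lit 0x18081200c18000c04004c81002020020a030001000ea0181c00006780c0004002ac000602000fc000101000510280008001b00c0400000b40600000003600010040000))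

noncomputable def R : RTr := (RTr.node (RTr.node (RTr.node (RTr.node (RTr.leaf ⟨true,9,[],[],0,0,false⟩) (RTr.leaf ⟨false,9,[27,9,27,9,27],[],3,4,false⟩)) (RTr.leaf ⟨false,27,[18,27,18,27,18],[],3,4,true⟩)) (RTr.node (RTr.leaf ⟨false,27,[27],[],1,0,false⟩) (RTr.leaf ⟨false,18,[27,18,27,18,27],[],3,5,true⟩))) (RTr.node (RTr.node (RTr.leaf ⟨false,18,[9],[],0,1,false⟩) (RTr.leaf ⟨false,18,[18,18,18,18],[],2,3,true⟩)) (RTr.node (RTr.leaf ⟨false,9,[18],[],0,0,false⟩) (RTr.leaf ⟨false,27,[9,27,9,27,9],[],3,5,false⟩))))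

noncomputable def D : TCD where
  N := nat_lit 12
  E := e0
  lb := nat_lit 4
  lm := nat_lit 15
  rw := nat_lit 36
  em := nat_lit 511
  vm := nat_lit 31
  fl := nat_lit 16
  wv := nat_lit 5
  inf := nat_lit 480
  J := j0
  jw := nat_lit 9
  jm := nat_lit 511
  jr := nat_lit 45
  pk := nat_lit 36
  nr := nat_lit 9
  R := R
  cols := [(nat_lit 9,nat_lit 18),(nat_lit 18,nat_lit 27),(nat_lit 27,nat_lit 36)]
  j0 := nat_lit 9
  big := nat_lit 1000000000

def cl : List (Nat × Nat) := [(9,0),(18,1),(27,2)]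
def invs : List Nat := [1]
def rels : List (List Nat) := [[0,1],[2,3],[0,0,0,0,0],[0,2,0,2,0,2]]
def subs : List (List Nat) := [[0]]
def W0 : List (List Nat) := [[0],[2]]

theorem c0 : Nat.beq (nsum2 D.val 0 1 64) 12 = true := by decide +kernel

theorem pre : tcPre D cl invs rels subs W0 64 12 = true := by decide +kernel

theorem u0 : Upto D.val 0 0 := Upto.zero _
theorem u1 : Upto D.val 64 12 := u0.step c0 (by decide) (by decide)

theorem relIndex {G : Type*} [Group G] (g : Nat → G) (K : Subgroup G) (hinv : ∀ k ∈ invs, g k * g k = 1)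
    (hrel : ∀ r ∈ rels, wprod g r = 1) (hsub : ∀ h ∈ subs, wprod g h ∈ K) :
    K.relIndex (genW g W0) ≠ 0 ∧ K.relIndex (genW g W0) ≤ 12 :=
  tc_relIndex g K D cl invs rels subs W0 _ _ hinv hrel hsub pre u1

end CfsgH7.A5mT

namespace CfsgH7.A5m

def R : List (List Nat) := [[2,2],[0,0,0,0,0],[0,2,0,2,0,2]]
def S : List (List Nat) := [[0]]
theorem p2 : P2.{u} 2 R S 12 := fun _ _ g K hs hS =>
  have hf := hs.follows (invs := A5mT.invs) (rels := A5mT.rels) (by decide +kernel)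
  A5mT.relIndex g K hf.1 hf.2 hS
noncomputable def Rf : List (List Nat) := R ++ (C5.Rf).map (substW S)
theorem pr : Pr.{u} 2 Rf 60 := Pr.step (S := S) p2 C5.pr
theorem perf {G : Type*} [Group G] {g : Nat → G} (h : Sat g Rf) :
    ⁅genW g (gensW 2), genW g (gensW 2)⁆ = genW g (gensW 2) :=
  perfect_of_nrm (R := R) (cs := [[0,0,0,2,5,5],[0,0,0,0,0,0,0,2,2,2,5,5,5,5,5]]) (fun r hr => h r (List.mem_append_left _ hr)) (by decide +kernel)

end CfsgH7.A5m

namespace CfsgH7.A5m

noncomputable def n0 : Net := (Net.cons (nat_lit 1) (nat_lit 0x1) (Net.cons (nat_lit 1) (nat_lit 0x2) (Net.cons (nat_lit 1) (nat_lit 0x4) (Net.cons (nat_lit 1) (nat_lit 0x8) Net.nil))))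

noncomputable def n1 : Net := (Net.cons (nat_lit 1) (nat_lit 0x5) Net.nil)

noncomputable def l : List Net := [n0, n1]

theorem R0 : Rep (finPt 5) 5 (finGen 5 l) l := finRep 5 l (by decide +kernel) (by decide +kernel)

theorem tr0 : trivJ l 5 3 Rf 0 = true := by decide +kernel
theorem tr1 : trivJ l 5 3 Rf 1 = true := by decide +kernel
theorem tr2 : trivJ l 5 3 Rf 2 = true := by decide +kernel
theorem sat0 : Sat (finGen 5 l) Rf := finRep_sat R0 (m := 3) (by norm_num) (by
    intro j hj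
    interval_cases j
    · exact tr0
    · exact tr1
    · exact tr2)

abbrev G0 : Type := PG 5 l
noncomputable abbrev g0 : Nat → G0 := pgen 5 l
def bs : List Nat := [2,1,0]
theorem M0 : Md (finPt 5) 5 g0 l 2 60 bs :=
  Md.fin' R0 pr sat0 [⟨0, [[0]], [0,0,0,0], 5⟩,
  ⟨1, [[1,2],[0,2,1]], [0,1], 4⟩,
  ⟨2, [[1,1,2,0,0,2]], [0,0], 3⟩] 3 bs (by decide +kernel)
theorem sb0 : lall (fun w => fixesP l w bs) Rf = true := by decide +kernel
theorem mdl0 : Mdl G0 2 Rf 60 := M0.mdl sb0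
theorem iso {G : Type u} [Group G] (h : Mdl G 2 Rf 60) : Nonempty (G0 ≃* G) := Mdl.iso pr mdl0 h

end CfsgH7.A5m

namespace CfsgH7.A5m

theorem perf0 : commutator G0 = ⊤ := M0.perf (perf (M0.sat sb0))

end CfsgH7.A5m

namespace CfsgH7.A5m

theorem alt : Nonempty (G0 ≃* alternatingGroup (Fin 5)) := alt_iso perf0 (by norm_num) (by rw [M0.card]; rfl)
theorem simple : IsSimpleGroup G0 := alt.elim fun e => e.isSimpleGroup

end CfsgH7.A5m

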