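import Cfsg.Agent.H7.Mult3
import Cfsg.Agent.H7.Mu.J3
import Cfsg.Agent.H7.Mx6
import Cfsg.Prelude.Def_Spor_J3

set_option autoImplicit false
set_option maxRecDepth 100000

universe u

open scoped Pointwise

namespace CfsgH7.J3m

open Cfsg Cfsg.Spor Subgroup

def Ms : List (List (List Nat)) := [[[2,2,2,2,3,0,0,2,3],[3,3,1,3,2,2,0,0,1],[0,3,0,1,0,1,3,2,0],[1,3,0,2,2,2,1,1,0],[2,3,2,3,3,2,1,3,2],[0,3,1,1,3,3,2,0,2],[3,0,0,3,2,3,1,3,3],[2,2,3,3,3,0,3,2,0],[1,0,0,3,0,1,2,2,0]],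
  [[3,2,0,1,3,0,2,3,1],[3,2,2,2,2,2,0,3,0],[3,1,0,0,3,1,0,2,0],[3,2,1,3,2,1,2,2,2],[2,3,0,3,2,2,3,2,0],[0,3,1,3,3,2,2,0,1],[0,0,2,1,1,3,1,2,3],[3,0,3,1,2,0,2,3,3],[2,1,0,0,3,3,2,0,0]],
  [[2,3,2,2,2,2,0,2,0],[0,2,1,2,0,1,1,3,2],[2,3,1,0,3,3,2,1,0],[2,2,0,1,0,1,1,3,1],[0,3,1,0,0,3,2,0,3],[2,3,1,3,1,1,1,2,3],[3,2,2,3,1,3,2,1,3],[2,1,3,1,0,2,3,1,0],[2,1,0,3,3,1,0,0,0]],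
  [[3,0,3,3,0,3,2,3,3],[2,3,2,3,2,2,3,1,1],[3,1,1,0,1,1,3,2,0],[3,3,0,1,0,2,2,1,2],[3,0,2,0,0,1,1,0,2],[3,1,2,1,2,1,2,3,1],[0,1,3,1,3,1,3,2,0],[3,2,1,2,0,3,1,1,0],[0,3,0,1,2,2,2,0,0]],
  [[1,0,0,0,0,0,0,0,0],[0,0,1,0,0,0,0,0,0],[0,1,0,0,0,0,0,0,0],[0,0,0,0,0,0,2,0,0],[0,0,0,0,0,0,0,0,2],[0,0,0,0,0,0,0,2,0],[0,0,0,3,0,0,0,0,0],[0,0,0,0,0,3,0,0,0],[0,0,0,0,3,0,0,0,0]],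
  [[1,0,0,0,0,0,0,0,0],[0,0,1,0,0,0,0,0,0],[0,1,0,0,0,0,0,0,0],[0,0,0,0,0,0,2,0,0],[0,0,0,0,0,0,0,0,2],[0,0,0,0,0,0,0,2,0],[0,0,0,3,0,0,0,0,0],[0,0,0,0,0,3,0,0,0],[0,0,0,0,3,0,0,0,0]],
  [[2,0,0,0,0,0,0,0,0],[0,2,0,0,0,0,0,0,0],[0,0,2,0,0,0,0,0,0],[0,0,0,2,0,0,0,0,0],[0,0,0,0,2,0,0,0,0],[0,0,0,0,0,2,0,0,0],[0,0,0,0,0,0,2,0,0],[0,0,0,0,0,0,0,2,0],[0,0,0,0,0,0,0,0,2]],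
  [[3,0,0,0,0,0,0,0,0],[0,3,0,0,0,0,0,0,0],[0,0,3,0,0,0,0,0,0],[0,0,0,3,0,0,0,0,0],[0,0,0,0,3,0,0,0,0],[0,0,0,0,0,3,0,0,0],[0,0,0,0,0,0,3,0,0],[0,0,0,0,0,0,0,3,0],[0,0,0,0,0,0,0,0,3]],
  [[1,0,0,0,0,0,0,0,0],[0,1,0,0,0,0,0,0,0],[0,0,1,0,0,0,0,0,0],[0,0,0,2,0,0,0,0,0],[0,0,0,0,2,0,0,0,0],[0,0,0,0,0,2,0,0,0],[0,0,0,0,0,0,3,0,0],[0,0,0,0,0,0,0,3,0],[0,0,0,0,0,0,0,0,3]],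
  [[1,0,0,0,0,0,0,0,0],[0,1,0,0,0,0,0,0,0],[0,0,1,0,0,0,0,0,0],[0,0,0,3,0,0,0,0,0],[0,0,0,0,3,0,0,0,0],[0,0,0,0,0,3,0,0,0],[0,0,0,0,0,0,2,0,0],[0,0,0,0,0,0,0,2,0],[0,0,0,0,0,0,0,0,2]],
  [[1,0,0,0,0,0,0,0,0],[0,2,0,0,0,0,0,0,0],[0,0,2,0,0,0,0,0,0],[0,0,0,2,0,0,0,0,0],[0,0,0,0,3,0,0,0,0],[0,0,0,0,0,3,0,0,0],[0,0,0,0,0,0,2,0,0],[0,0,0,0,0,0,0,3,0],[0,0,0,0,0,0,0,0,3]],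
  [[1,0,0,0,0,0,0,0,0],[0,3,0,0,0,0,0,0,0],[0,0,3,0,0,0,0,0,0],[0,0,0,3,0,0,0,0,0],[0,0,0,0,2,0,0,0,0],[0,0,0,0,0,2,0,0,0],[0,0,0,0,0,0,3,0,0],[0,0,0,0,0,0,0,2,0],[0,0,0,0,0,0,0,0,2]],
  [[0,0,0,0,0,0,1,0,0],[0,0,0,0,0,0,0,1,0],[0,0,0,0,0,0,0,0,1],[1,0,0,0,0,0,0,0,0],[0,1,0,0,0,0,0,0,0],[0,0,1,0,0,0,0,0,0],[0,0,0,1,0,0,0,0,0],[0,0,0,0,2,0,0,0,0],[0,0,0,0,0,3,0,0,0]],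
  [[0,0,0,1,0,0,0,0,0],[0,0,0,0,1,0,0,0,0],[0,0,0,0,0,1,0,0,0],[0,0,0,0,0,0,1,0,0],[0,0,0,0,0,0,0,3,0],[0,0,0,0,0,0,0,0,2],[1,0,0,0,0,0,0,0,0],[0,1,0,0,0,0,0,0,0],[0,0,1,0,0,0,0,0,0]],
  [[1,0,0,0,0,0,0,0,0],[0,0,0,0,0,0,0,0,1],[0,0,0,0,1,0,0,0,0],[0,0,0,0,0,0,0,1,0],[0,0,0,1,0,0,0,0,0],[0,0,1,0,0,0,0,0,0],[0,0,0,0,0,1,0,0,0],[0,1,0,0,0,0,0,0,0],[0,0,0,0,0,0,1,0,0]],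
  [[1,0,0,0,0,0,0,0,0],[0,0,0,0,0,0,0,1,0],[0,0,0,0,0,1,0,0,0],[0,0,0,0,1,0,0,0,0],[0,0,1,0,0,0,0,0,0],[0,0,0,0,0,0,1,0,0],[0,0,0,0,0,0,0,0,1],[0,0,0,1,0,0,0,0,0],[0,1,0,0,0,0,0,0,0]],
  [[1,0,0,0,0,0,0,0,0],[0,1,0,1,0,0,1,0,0],[0,0,1,1,0,0,1,0,0],[0,1,1,0,0,0,1,0,0],[0,0,0,0,1,1,0,0,1],[0,0,0,0,1,1,0,1,0],[0,1,1,1,0,0,0,0,0],[0,0,0,0,0,1,0,1,1],[0,0,0,0,1,0,0,1,1]],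
  [[1,0,0,0,0,0,0,0,0],[0,1,0,1,0,0,1,0,0],[0,0,1,1,0,0,1,0,0],[0,1,1,0,0,0,1,0,0],[0,0,0,0,1,1,0,0,1],[0,0,0,0,1,1,0,1,0],[0,1,1,1,0,0,0,0,0],[0,0,0,0,0,1,0,1,1],[0,0,0,0,1,0,0,1,1]],
  [[1,0,0,0,0,0,0,0,0],[0,1,0,0,0,0,0,0,0],[0,0,1,0,0,0,0,0,0],[0,0,0,1,0,0,0,0,0],[0,0,0,0,1,0,0,0,0],[0,0,0,0,0,1,0,0,0],[0,0,0,0,0,0,1,0,0],[0,0,0,0,0,0,0,1,0],[0,0,0,0,0,0,0,0,1]],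
  [[1,0,0,0,0,0,0,0,0],[0,2,0,0,0,0,0,0,0],[0,0,3,0,0,0,0,0,0],[0,0,0,1,0,0,0,0,0],[0,0,0,0,2,0,0,0,0],[0,0,0,0,0,3,0,0,0],[0,0,0,0,0,0,1,0,0],[0,0,0,0,0,0,0,2,0],[0,0,0,0,0,0,0,0,3]],
  [[1,0,0,0,0,0,0,0,0],[0,3,0,0,0,0,0,0,0],[0,0,2,0,0,0,0,0,0],[0,0,0,1,0,0,0,0,0],[0,0,0,0,3,0,0,0,0],[0,0,0,0,0,2,0,0,0],[0,0,0,0,0,0,1,0,0],[0,0,0,0,0,0,0,3,0],[0,0,0,0,0,0,0,0,2]],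
  [[1,0,0,0,0,0,0,0,0],[0,2,0,0,0,0,0,0,0],[0,0,3,0,0,0,0,0,0],[0,0,0,2,0,0,0,0,0],[0,0,0,0,3,0,0,0,0],[0,0,0,0,0,1,0,0,0],[0,0,0,0,0,0,3,0,0],[0,0,0,0,0,0,0,1,0],[0,0,0,0,0,0,0,0,2]],
  [[1,0,0,0,0,0,0,0,0],[0,3,0,0,0,0,0,0,0],[0,0,2,0,0,0,0,0,0],[0,0,0,2,0,0,0,0,0],[0,0,0,0,1,0,0,0,0],[0,0,0,0,0,3,0,0,0],[0,0,0,0,0,0,3,0,0],[0,0,0,0,0,0,0,2,0],[0,0,0,0,0,0,0,0,1]],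
  [[1,0,0,0,0,0,0,0,0],[0,2,0,0,0,0,0,0,0],[0,0,3,0,0,0,0,0,0],[0,0,0,3,0,0,0,0,0],[0,0,0,0,1,0,0,0,0],[0,0,0,0,0,2,0,0,0],[0,0,0,0,0,0,2,0,0],[0,0,0,0,0,0,0,3,0],[0,0,0,0,0,0,0,0,1]],
  [[1,0,0,0,0,0,0,0,0],[0,3,0,0,0,0,0,0,0],[0,0,2,0,0,0,0,0,0],[0,0,0,3,0,0,0,0,0],[0,0,0,0,2,0,0,0,0],[0,0,0,0,0,1,0,0,0],[0,0,0,0,0,0,2,0,0],[0,0,0,0,0,0,0,1,0],[0,0,0,0,0,0,0,0,3]],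
  [[2,0,0,0,0,0,0,0,0],[0,1,0,0,0,0,0,0,0],[0,0,2,0,0,0,0,0,0],[0,0,0,3,0,0,0,0,0],[0,0,0,0,2,0,0,0,0],[0,0,0,0,0,3,0,0,0],[0,0,0,0,0,0,3,0,0],[0,0,0,0,0,0,0,2,0],[0,0,0,0,0,0,0,0,3]],
  [[2,0,0,0,0,0,0,0,0],[0,2,0,0,0,0,0,0,0],[0,0,1,0,0,0,0,0,0],[0,0,0,3,0,0,0,0,0],[0,0,0,0,3,0,0,0,0],[0,0,0,0,0,2,0,0,0],[0,0,0,0,0,0,3,0,0],[0,0,0,0,0,0,0,3,0],[0,0,0,0,0,0,0,0,2]],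
  [[2,0,0,0,0,0,0,0,0],[0,3,0,0,0,0,0,0,0],[0,0,3,0,0,0,0,0,0],[0,0,0,1,0,0,0,0,0],[0,0,0,0,2,0,0,0,0],[0,0,0,0,0,2,0,0,0],[0,0,0,0,0,0,2,0,0],[0,0,0,0,0,0,0,3,0],[0,0,0,0,0,0,0,0,3]],
  [[3,0,0,0,0,0,0,0,0],[0,2,0,0,0,0,0,0,0],[0,0,3,0,0,0,0,0,0],[0,0,0,2,0,0,0,0,0],[0,0,0,0,1,0,0,0,0],[0,0,0,0,0,2,0,0,0],[0,0,0,0,0,0,3,0,0],[0,0,0,0,0,0,0,2,0],[0,0,0,0,0,0,0,0,3]],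
  [[3,0,0,0,0,0,0,0,0],[0,3,0,0,0,0,0,0,0],[0,0,2,0,0,0,0,0,0],[0,0,0,2,0,0,0,0,0],[0,0,0,0,2,0,0,0,0],[0,0,0,0,0,1,0,0,0],[0,0,0,0,0,0,3,0,0],[0,0,0,0,0,0,0,3,0],[0,0,0,0,0,0,0,0,2]],
  [[2,0,0,0,0,0,0,0,0],[0,3,0,0,0,0,0,0,0],[0,0,3,0,0,0,0,0,0],[0,0,0,2,0,0,0,0,0],[0,0,0,0,3,0,0,0,0],[0,0,0,0,0,3,0,0,0],[0,0,0,0,0,0,1,0,0],[0,0,0,0,0,0,0,2,0],[0,0,0,0,0,0,0,0,2]],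
  [[3,0,0,0,0,0,0,0,0],[0,2,0,0,0,0,0,0,0],[0,0,3,0,0,0,0,0,0],[0,0,0,3,0,0,0,0,0],[0,0,0,0,2,0,0,0,0],[0,0,0,0,0,3,0,0,0],[0,0,0,0,0,0,2,0,0],[0,0,0,0,0,0,0,1,0],[0,0,0,0,0,0,0,0,2]],
  [[3,0,0,0,0,0,0,0,0],[0,3,0,0,0,0,0,0,0],[0,0,2,0,0,0,0,0,0],[0,0,0,3,0,0,0,0,0],[0,0,0,0,3,0,0,0,0],[0,0,0,0,0,2,0,0,0],[0,0,0,0,0,0,2,0,0],[0,0,0,0,0,0,0,2,0],[0,0,0,0,0,0,0,0,1]],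
  [[0,0,1,0,0,0,0,0,0],[1,0,0,0,0,0,0,0,0],[0,1,0,0,0,0,0,0,0],[0,0,0,0,0,1,0,0,0],[0,0,0,1,0,0,0,0,0],[0,0,0,0,3,0,0,0,0],[0,0,0,0,0,0,0,0,1],[0,0,0,0,0,0,1,0,0],[0,0,0,0,0,0,0,2,0]],
  [[0,1,0,0,0,0,0,0,0],[0,0,1,0,0,0,0,0,0],[1,0,0,0,0,0,0,0,0],[0,0,0,0,1,0,0,0,0],[0,0,0,0,0,2,0,0,0],[0,0,0,1,0,0,0,0,0],[0,0,0,0,0,0,0,1,0],[0,0,0,0,0,0,0,0,3],[0,0,0,0,0,0,1,0,0]],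
  [[0,0,0,0,0,0,0,0,1],[0,0,0,0,0,0,3,0,0],[0,0,0,0,0,0,0,1,0],[0,0,2,0,0,0,0,0,0],[1,0,0,0,0,0,0,0,0],[0,1,0,0,0,0,0,0,0],[0,0,0,0,0,1,0,0,0],[0,0,0,1,0,0,0,0,0],[0,0,0,0,1,0,0,0,0]],
  [[0,0,0,0,0,0,0,1,0],[0,0,0,0,0,0,0,0,1],[0,0,0,0,0,0,2,0,0],[0,3,0,0,0,0,0,0,0],[0,0,1,0,0,0,0,0,0],[1,0,0,0,0,0,0,0,0],[0,0,0,0,1,0,0,0,0],[0,0,0,0,0,1,0,0,0],[0,0,0,1,0,0,0,0,0]],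
  [[0,0,0,0,0,1,0,0,0],[0,0,0,2,0,0,0,0,0],[0,0,0,0,1,0,0,0,0],[0,0,0,0,0,0,0,0,1],[0,0,0,0,0,0,1,0,0],[0,0,0,0,0,0,0,1,0],[0,0,3,0,0,0,0,0,0],[1,0,0,0,0,0,0,0,0],[0,1,0,0,0,0,0,0,0]],
  [[0,0,0,0,1,0,0,0,0],[0,0,0,0,0,1,0,0,0],[0,0,0,3,0,0,0,0,0],[0,0,0,0,0,0,0,1,0],[0,0,0,0,0,0,0,0,1],[0,0,0,0,0,0,1,0,0],[0,2,0,0,0,0,0,0,0],[0,0,1,0,0,0,0,0,0],[1,0,0,0,0,0,0,0,0]],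
  [[1,0,0,0,0,0,0,0,0],[0,0,0,1,0,0,0,0,0],[0,0,0,0,0,0,1,0,0],[0,0,1,0,0,0,0,0,0],[0,0,0,0,0,1,0,0,0],[0,0,0,0,0,0,0,0,1],[0,1,0,0,0,0,0,0,0],[0,0,0,0,1,0,0,0,0],[0,0,0,0,0,0,0,1,0]],
  [[1,0,0,0,0,0,0,0,0],[0,0,0,0,0,0,1,0,0],[0,0,0,1,0,0,0,0,0],[0,1,0,0,0,0,0,0,0],[0,0,0,0,0,0,0,1,0],[0,0,0,0,1,0,0,0,0],[0,0,1,0,0,0,0,0,0],[0,0,0,0,0,0,0,0,1],[0,0,0,0,0,1,0,0,0]],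
  [[1,0,0,0,0,0,0,0,0],[0,0,0,0,0,1,0,0,0],[0,0,0,0,0,0,0,1,0],[0,0,0,0,0,0,0,0,1],[0,1,0,0,0,0,0,0,0],[0,0,0,1,0,0,0,0,0],[0,0,0,0,1,0,0,0,0],[0,0,0,0,0,0,1,0,0],[0,0,1,0,0,0,0,0,0]],
  [[1,0,0,0,0,0,0,0,0],[0,0,1,0,0,0,0,0,0],[0,1,0,0,0,0,0,0,0],[0,0,0,0,0,0,1,0,0],[0,0,0,0,0,0,0,0,1],[0,0,0,0,0,0,0,1,0],[0,0,0,1,0,0,0,0,0],[0,0,0,0,0,1,0,0,0],[0,0,0,0,1,0,0,0,0]],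
  [[1,0,0,0,0,0,0,0,0],[0,0,0,0,1,0,0,0,0],[0,0,0,0,0,0,0,0,1],[0,0,0,0,0,1,0,0,0],[0,0,0,0,0,0,1,0,0],[0,1,0,0,0,0,0,0,0],[0,0,0,0,0,0,0,1,0],[0,0,1,0,0,0,0,0,0],[0,0,0,1,0,0,0,0,0]],
  [[1,0,0,0,0,0,0,0,0],[0,1,1,0,0,0,1,0,0],[0,1,1,1,0,0,0,0,0],[0,0,1,1,0,0,1,0,0],[0,0,0,0,1,1,0,1,0],[0,0,0,0,1,0,0,1,1],[0,1,0,1,0,0,1,0,0],[0,0,0,0,1,1,0,0,1],[0,0,0,0,0,1,0,1,1]],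
  [[1,0,0,0,0,0,0,0,0],[0,1,1,1,0,0,0,0,0],[0,1,1,0,0,0,1,0,0],[0,1,0,1,0,0,1,0,0],[0,0,0,0,0,1,0,1,1],[0,0,0,0,1,1,0,0,1],[0,0,1,1,0,0,1,0,0],[0,0,0,0,1,0,0,1,1],[0,0,0,0,1,1,0,1,0]],
  [[1,0,0,0,0,0,0,0,0],[0,0,0,0,1,0,0,1,1],[0,0,0,0,1,1,0,0,1],[0,0,0,0,0,1,0,1,1],[0,1,1,0,0,0,1,0,0],[0,0,1,1,0,0,1,0,0],[0,0,0,0,1,1,0,1,0],[0,1,0,1,0,0,1,0,0],[0,1,1,1,0,0,0,0,0]],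
  [[1,0,0,0,0,0,0,0,0],[0,0,0,0,1,1,0,1,0],[0,0,0,0,0,1,0,1,1],[0,0,0,0,1,0,0,1,1],[0,1,0,1,0,0,1,0,0],[0,1,1,0,0,0,1,0,0],[0,0,0,0,1,1,0,0,1],[0,1,1,1,0,0,0,0,0],[0,0,1,1,0,0,1,0,0]],
  [[1,0,0,0,0,0,0,0,0],[0,0,1,1,0,0,1,0,0],[0,1,0,1,0,0,1,0,0],[0,1,1,1,0,0,0,0,0],[0,0,0,0,1,0,0,1,1],[0,0,0,0,0,1,0,1,1],[0,1,1,0,0,0,1,0,0],[0,0,0,0,1,1,0,1,0],[0,0,0,0,1,1,0,0,1]],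
  [[1,0,0,0,0,0,0,0,0],[0,0,0,0,0,1,0,1,1],[0,0,0,0,1,1,0,1,0],[0,0,0,0,1,1,0,0,1],[0,0,1,1,0,0,1,0,0],[0,1,1,1,0,0,0,0,0],[0,0,0,0,1,0,0,1,1],[0,1,1,0,0,0,1,0,0],[0,1,0,1,0,0,1,0,0]],
  [[1,0,0,0,0,0,0,0,0],[0,0,0,0,1,1,0,0,1],[0,0,0,0,1,0,0,1,1],[0,0,0,0,1,1,0,1,0],[0,1,1,1,0,0,0,0,0],[0,1,0,1,0,0,1,0,0],[0,0,0,0,0,1,0,1,1],[0,0,1,1,0,0,1,0,0],[0,1,1,0,0,0,1,0,0]],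
  [[0,0,3,2,1,2,3,2,2],[1,3,2,2,1,3,2,1,2],[2,3,0,0,3,1,1,2,1],[1,2,1,2,1,1,1,2,3],[2,0,0,0,3,1,3,0,2],[1,3,3,0,0,2,2,2,3],[0,2,2,2,0,1,0,0,2],[0,1,3,0,2,2,1,1,1],[0,3,2,2,1,1,0,1,1]]]
theorem hM : (arQ 2 1 1).mOk 9 Ms = true := by decide +kernel
def ix (z : F9) : Nat := 3 * z.1.val + z.2.val
def px (i : Nat) : F9 := ((i / 3 : Nat), (i : Nat))
theorem I : Ix ix px 9 := ⟨by decide, by decide, by decide⟩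
def oc (n : ZMod 3) : Nat := n.val + 1
def cL (Z z : F9) : Nat := if z = 0 then 1 else if F9.div Z z = F9.I - F9.one then 2 else if F9.div Z z = -F9.I - F9.one then 3 else 1
def T : List Nat := [18,19,20,8,21,22,9,23,24,10,25,26,27,28,29,30,31,32,18,33,34,12,35,36,13,37,38,39,40,18,14,41,42,15,43,44,45,16,46,47,48,49,50]
theorem tA : ∀ Z r s : F9, ent Ms (nth T (ix Z)) (ix r) (ix s) = if r = s then oc (Z.1 * r.1 + Z.2 * r.2) else 0 := by decide +kernel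
theorem tE : ∀ Z r s : F9, ent Ms (nth T (9 + ix Z)) (ix r) (ix s) = if r = s then oc ((Z.1 - r.1) ^ 2 + (Z.2 - r.2) ^ 2) else 0 := by
  decide +kernel
theorem tD : ∀ Z r s : F9, ent Ms (nth T (18 + ix Z)) (ix r) (ix s) = if r = s + Z then cL Z s else 0 := by decide +kernel
theorem tB : ∀ Z : F9, Z ≠ 0 → ∀ r s : F9, ent Ms (nth T (26 + ix Z)) (ix r) (ix s) = if r = F9.mul Z s then 1 else 0 := by decide +kernel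
theorem tC : ∀ Z : F9, Z ≠ 0 → ∀ r s : F9, ent Ms (nth T (34 + ix Z)) (ix r) (ix s) = if s = 0 then (if r = 0 then 1 else 0)
    else if r = -F9.div Z s ∨ r = F9.mul F9.I (F9.div Z s) ∨ r = -F9.mul F9.I (F9.div Z s) then 1 else 0 := by decide +kernel
theorem tM : ∀ Z : F9, ∀ a ∈ [0, 9, 18, 26, 34], nth T (a + ix Z) ∈ T := by decide +kernel

variable {F : Type u} [Field F] {ω : F}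

section
variable [CharP F 2] (hω : ω ^ 2 + ω + 1 = 0)
include hω

theorem sq : ω * ω = ω + 1 := by linear_combination hω - (ω + 1) * (CharP.cast_eq_zero F 2 : ((2 : Nat) : F) = 0)
theorem K : (arQ 2 1 1).Ok (cfQ 2 ω) := arQ_ok 2 1 1 (by norm_num) (by rw [sq hω]; simp) (by decide)
theorem c2 : cfQ 2 ω 2 = ω := by simp [cfQ, CharTwo.two_eq_zero]
theorem c3 : cfQ 2 ω 3 = ω ^ 2 := by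
  rw [pow_two, sq hω]; simp only [cfQ]; norm_num
  linear_combination (CharP.cast_eq_zero F 2 : ((2 : Nat) : F) = 0)
theorem cO (n : ZMod 3) : cfQ 2 ω (oc n) = omegaPow F ω n := by
  fin_cases n
  · exact (K hω).one.trans (pow_zero ω).symm
  · exact (c2 hω).trans (pow_one ω).symm
  · exact c3 hω
theorem eA (Z : F9) : j3A F ω Z = mat (cfQ 2 ω) ix (matAt Ms (nth T (0 + ix Z))) := by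
  ext r s; rw [mat_apply, zero_add, tA, apply_ite (cfQ 2 ω), cO hω, (K hω).zero, j3A, Matrix.diagonal_apply]
theorem eE (Z : F9) : j3E F ω Z = mat (cfQ 2 ω) ix (matAt Ms (nth T (9 + ix Z))) := by
  ext r s; rw [mat_apply, tE, apply_ite (cfQ 2 ω), cO hω, (K hω).zero, j3E, Matrix.diagonal_apply]
theorem eD (Z : F9) : j3D F ω Z = mat (cfQ 2 ω) ix (matAt Ms (nth T (18 + ix Z))) := by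
  ext r s; simp only [mat_apply, tD, cL, apply_ite (cfQ 2 ω), c2 hω, c3 hω, (K hω).zero, (K hω).one, j3D, j3Lam, Matrix.of_apply]
theorem eB {Z : F9} (h : Z ≠ 0) : j3B F Z = mat (cfQ 2 ω) ix (matAt Ms (nth T (26 + ix Z))) := by
  ext r s; simp only [mat_apply, tB Z h, apply_ite (cfQ 2 ω), (K hω).zero, (K hω).one, j3B, Matrix.of_apply]
theorem eC {Z : F9} (h : Z ≠ 0) : j3C F Z = mat (cfQ 2 ω) ix (matAt Ms (nth T (34 + ix Z))) := by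
  ext r s; simp only [mat_apply, tC Z h, apply_ite (cfQ 2 ω), (K hω).zero, (K hω).one, j3C, Matrix.of_apply]

abbrev ρ (ω : F) : threeJ3 F ω →* Matrix F9 F9 F := (Units.coeHom _).comp (threeJ3 F ω).subtype
noncomputable abbrev b (ω : F) : Nat → threeJ3 F ω := pick (ρ ω) (cfQ 2 ω) ix Ms

theorem h0 : ∀ j ∈ [4,5,6,7,8], Has (ρ ω) (cfQ 2 ω) ix Ms (2 * j) := fun j hj =>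
  ((K hω).hasGL I hM [4,5,6,7,8] (by decide +kernel) j hj).sub fun y e => subset_closure (by
    show y.1 ∈ j3Gens F ω
    rw [show y.1 = _ from e]
    simp only [List.mem_cons, List.not_mem_nil, or_false] at hj
    rcases hj with rfl | rfl | rfl | rfl | rfl
    · exact .inl (.inl (.inl (.inl ⟨(1, 0), eA hω _⟩)))
    · exact .inl (.inl (.inl (.inr ⟨(0, 0), eE hω _⟩)))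
    · exact .inl (.inl (.inr ⟨(1, 0), eD hω _⟩))
    · exact .inl (.inr ⟨(1, 1), by decide, (eB hω (Z := (1, 1)) (by decide)).symm⟩)
    · exact .inr ⟨(1, 0), by decide, (eC hω (Z := (1, 0)) (by decide)).symm⟩)
theorem mo : MatOf (ρ ω) (cfQ 2 ω) ix (b ω) Ms (lets (List.range 4)) :=
  (K hω).pick I hM _ ((K hω).has I hM ((K hω).pick I hM _ (h0 hω) (by decide +kernel))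
    [[16,9,16,12,15,13,10,16,13,13,16,13,14],[15,8,16,14,12,14,11,13,16,13,14,9,16,12],[14,8,14,14,8,14],[12,10,14,12,10,14,12,10,14,12,10,14,12,10,14,12,10,14,12,10,14,12,10,14]] _ (by decide +kernel)) (by decide +kernel)
theorem gen : genW (b ω) (gensW 4) = ⊤ := by
  have key := fun a ha y hy => (K hω).extMem I hM (inj_sub inj_gl _) (mo hω) 4
    [[],[4,3,0,0,4,1,4,1,3,0,3],[3,0,0,4,1,4,1,3,0,3,4],[0,2,0,4,3,1,3,4,3,4,3,4,0,2,4,6,6],[4,3,1,2,0,2,4,1,1,1,4,2,4,1,1,6,6],[1,4,2,4,2,0,2,0,3,1,3,1,4,2],[4,0,2,0,4,3,1,3,4,3,4,3,4,0,2,6,6],[3,4,0,2,0,2,1,3,1,3,4,3,4,0],[0,0,4,3,4,0,0,0,4,3,1,3,0,2,4,6],[2,0,2,4,0,2,1,4,3,4,0,2,0,0,6,6],[0,3,1,4,3,4,0,2,1,6],[4,0,3,1,4,3,4,0,2,1,4,6],[3,1,3,0,4,1,2,4,2,1,3,0,6],[2,1,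4,0,4,3,1,1,3,1,3,4,2,1,6,6],[3,4,3,4,0,0,2,1,3,0,2,4,1,3],[1,4,1,3,1,4,1,4,2,4,3,1,4,1,6],[3,4,2,0,0,0,0,4,2,4,1,3,0],[0,2,1,3,1,3,4,3,4,0,0,4,0,2],[],[4,0,0,2,0,2,0,0,4,1,4,0,3,6,6],[0,3,1,3,1,3,0,4,1,4,0,3,4,6],[1,4,1,3,0,2,1,3,0,3,4,0,4],[2,1,2,0,4,0,3,4,2,4,1,1,2],[2,1,3,0,3,1,3,1,1,4,0,4,1,1,2],[4,1,4,2,1,2,0,3,1,2,0,4,0],[0,0,4,1,4,0,0,2,4,2,4,3,4,2,0,6,6],[3,0,0,4,3,4,2,1,4,1,3,0,3],[1,4,3,0,3,4,1,2,4,2,0,0,4,0,3,6,6],[3,4,2,1,2,4,0,3,4,0,3,4,3,1,2,6,6],[],[2,1,3,0,2,4,0,0,0,4,1,4,1,2,4],[1,2,0,3,4,2,0,4,0,0,4,0,0,4,6,6],[3,0,0,4,0,0,0,2,0,0,2,0,2,4,0,6],[4,3,0,4,0,4,1,1,1,4,3,1,2,0,3],[1,3,4,0,2,0,3,1,4,0,2,0,0,4,6],[4,3,0,2,4,3,4,2,4,3,1,2,4],[1,4,1,2,4,0,0,3,4,3,0,4,0,6],[3,0,2,1,4,1,1,1,4,1,3,4,3,0],[1,3,1,4,0,2,0,0,0,4,3,1,2,4,2,6],[3,1,1,3,4,0,3,0,4,2,0,0,2,6],[0,4,3,4,1,3,0,4,2,0,4,0,2,1,2,6,6],[2,4,2,0,3,1,2,0,3,1,1,4,3],[1,1,4,2,1,3,4,1,2,0,4,0,4,0]]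 T (by decide +kernel) (a := a) ha (y := y) hy
  refine top_of_closure ?_
  rintro x ((((⟨Z, h⟩ | ⟨Z, h⟩) | ⟨Z, h⟩) | ⟨Z, h0, h⟩) | ⟨Z, h0, h⟩)
  · exact key _ (tM Z 0 (by simp)) x (h.symm.trans (eA hω Z))
  · exact key _ (tM Z 9 (by simp)) x (h.symm.trans (eE hω Z))
  · exact key _ (tM Z 18 (by simp)) x (h.symm.trans (eD hω Z))
  · exact key _ (tM Z 26 (by simp)) x (h.trans (eB hω h0))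
  · exact key _ (tM Z 34 (by simp)) x (h.trans (eC hω h0))
end

/-- The structure of a group generated by the four matrices. -/
theorem ext3 {ι : Type} [Fintype ι] [DecidableEq ι] {ix : ι → Nat} {px : Nat → ι} (I : Ix ix px 9) {cf : Nat → F}
    (K : (arQ 2 1 1).Ok cf) {G : Type u} [Group G] {ρ : G →* Matrix ι ι F} (hρ : Function.Injective ρ) {b : Nat → G}
    (mo : MatOf ρ cf ix b Ms (lets (List.range 4))) (hg : genW b (gensW 4) = ⊤) :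
    Nat.card (center G) = 3 ∧ Mdl (G ⧸ center G) 3 Rf 50232960 ∧ Cov (G ⧸ center G) (Multiplicative (ZMod 3)) := by
  have hz : b 3 ∈ center G := cen_of_scl hρ (((congrArg ρ (letter_even b 3).symm).trans (mo 6 (by decide))).trans
    (K.scl I (by decide +kernel)))
  obtain ⟨h1, h2⟩ := cext pr mdl0 simple perf0 hg hz (K.relZ I hM hρ mo [[],[],[6],[6,6],[],[],[6,6],[],[6,6],[6],[],[6],[6,6],[],[],[6],[],[],[6,6],[6],[6,6],[],[6],[],[],[6,6],[],[6],[6,6],[],[],[6],[],[6],[6,6],[6,6]] 3 (by decide +kernel)) (j := 0) (by norm_num)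
    (K.nc I hM mo (t := 0) 1 51 0 0 (by decide +kernel))
  have ho := K.ord I hM hρ mo (j := 3) (p := 3) (by norm_num) 18 0 0 (by decide +kernel)
  have := h2.1
  refine ⟨by rw [h1, Nat.card_zpowers, ho], h2, (cov_cext ho h1 ?_).2⟩
  rw [← wprod_single b 3, K.weq I hM hρ mo (v := [4,4,0,0,0,3,4,1,1,2,0,3,4,1,1,2,0,3,4,3,5,3,0,5,0,0,2,0,2,5,1,1,1,5,0,5,2,1,1,1]) (by decide +kernel)]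
  exact bal_mem (k := 3) (by decide +kernel) fun _ _ => mem_top _

theorem main [Fintype F] (hF : Fintype.card F = 4) (hω : ω ^ 2 + ω + 1 = 0) :
    Nat.card (center (threeJ3 F ω)) = 3 ∧ Mdl (J3 F ω) 3 Rf 50232960 ∧ Cov (J3 F ω) (Multiplicative (ZMod 3)) :=
  have := (fld4 hF).1
  ext3 I (K hω) (inj_sub inj_gl _) (mo hω) (gen hω)

end CfsgH7.J3m

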