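import Cfsg.Agent.H7.Mult3
import Cfsg.Agent.H7.Mu.He
import Cfsg.Agent.H7.Mx4

set_option autoImplicit false
set_option maxRecDepth 100000

universe u

open scoped Pointwise

namespace CfsgH7.L216

noncomputable def n0 : Net := (Net.cons (nat_lit 10) (nat_lit 0xa5) (Net.cons (nat_lit 5) (nat_lit 0x2805) (Net.cons (nat_lit 1) (nat_lit 0x1) (Net.cons (nat_lit 1) (nat_lit 0x2002) (Net.cons (nat_lit 1) (nat_lit 0x29404) (Net.cons (nat_lit 1) (nat_lit 0x1284a) (Net.cons (nat_lit 1) (nat_lit 0x8000) (Net.cons (nat_lit 5) (nat_lit 0x201c) (Net.cons (nat_lit 10) (nat_lit 0xdc) Net.nil)))))))))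

noncomputable def n1 : Net := (Net.cons (nat_lit 10) (nat_lit 0x100) (Net.cons (nat_lit 5) (nat_lit 0x2c14) (Net.cons (nat_lit 1) (nat_lit 0x1024) (Net.cons (nat_lit 1) (nat_lit 0x204a) (Net.cons (nat_lit 1) (nat_lit 0x8005) (Net.cons (nat_lit 5) (nat_lit 0x2804) (Net.cons (nat_lit 10) (nat_lit 0x100) Net.nil)))))))

noncomputable def l : List Net := [n0, n1]

theorem R0 : Rep (finPt 17) 17 (finGen 17 l) l := finRep 17 l (by decide +kernel) (by decide +kernel)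

theorem tr0 : trivJ l 17 5 Rf 0 = true := by decide +kernel
theorem tr1 : trivJ l 17 5 Rf 1 = true := by decide +kernel
theorem tr2 : trivJ l 17 5 Rf 2 = true := by decide +kernel
theorem tr3 : trivJ l 17 5 Rf 3 = true := by decide +kernel
theorem tr4 : trivJ l 17 5 Rf 4 = true := by decide +kernel
theorem sat0 : Sat (finGen 17 l) Rf := finRep_sat R0 (m := 5) (by norm_num) (by
    intro j hj
    interval_cases j
    · exact tr0
    · exact tr1
    · exact tr2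
    · exact tr3
    · exact tr4)

abbrev G0 : Type := PG 17 l
noncomputable abbrev g0 : Nat → G0 := pgen 17 l
def bs : List Nat := [2,1,0]
theorem M0 : Md (finPt 17) 17 g0 l 2 4080 bs :=
  Md.fin' R0 pr sat0 [⟨0, [[0]], [0,0,0,0,0,0,0,0,0,0,0,0,0,0,0,0], 17⟩,
  ⟨1, [[1,1,2],[2,1,2]], [0,1,0,1,0,1,0], 16⟩,
  ⟨2, [[1,3],[0,0,0,2,1,2,0,0,0,0]], [0,0,0,0,1,1], 15⟩] 5 bs (by decide +kernel)
theorem sb0 : lall (fun w => fixesP l w bs) Rf = true := by decide +kernel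
theorem mdl0 : Mdl G0 2 Rf 4080 := M0.mdl sb0
theorem iso {G : Type u} [Group G] (h : Mdl G 2 Rf 4080) : Nonempty (G0 ≃* G) := Mdl.iso pr mdl0 h

end CfsgH7.L216

namespace CfsgH7.L216

theorem sbp210 : SBp G0 210 1 := lv210.sbp (M0.sat sb0) M0.gen M0.card

end CfsgH7.L216

namespace CfsgH7.L216

theorem sb : SB G0 1 :=
  SB.of M0.card [2,3,5,17] (by norm_num) [(210, 210, 1)] (by
    intro x hx
    simp only [List.mem_cons, List.not_mem_nil, or_false] at hx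
    rcases hx with rfl
    · exact sbp210)
    (by decide +kernel)

end CfsgH7.L216

namespace CfsgH7.L216

theorem perf0 : commutator G0 = ⊤ := M0.perf (perf (M0.sat sb0))

end CfsgH7.L216

namespace CfsgH7.L216

theorem simple : IsSimpleGroup G0 :=
  M0.simple ⟨0, [0,1,0,1,0,0,0], 17⟩ 5 [[1,1,2],[2,1,2],[0,0,0,0,0,3,0,3,1]] [⟨1, [0], [0,1,0,1,0,1,0], [0,0,0,0,1,0,0,0,0,0]⟩] 240 (by decide +kernel) (by decide +kernel)
    [1] 17 [[],[2]] [⟨0, [[0]], [0,0,0,0,0,0,0,0,0,0,0,0,0,0,0,0], 17⟩,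
  ⟨1, [[0,3],[0,0,2]], [0,0,1,0,1,0,0], 16⟩,
  ⟨2, [[0,0,2,2,1],[1,1,1,2,0,0,3]], [0,1,0,1,0,0], 15⟩] (by decide +kernel)

end CfsgH7.L216

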