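import Cfsg.Agent.H7.Mult3
import Cfsg.Agent.H7.Li.Sm
import Cfsg.Agent.S0243
import Cfsg.Agent.H7.Mx4

set_option autoImplicit false
set_option maxRecDepth 100000

universe u

open scoped Pointwise

namespace CfsgH7.SL27T

noncomputable def e0 : Tr := (Tr.node (Tr.node (Tr.leaf (nat_lit 0x21c2148498ef00214c7a0f039e014c98a10a06fc010b108068c5f8010863106291f008340c818109e008408302e63fc00833120580af8042605041813f0004808810105e000780e104037c000c01602840f8001202040807f004044000600be004018200800fc000200240040780)) (Tr.leaf (nat_lit 0xa562a6d7d2ff01ab05132e55de0210d26c54287c0622e5c8a04f7809536bc4e4a6f0106c4d522b5be0017d2b84826bc041c13148d5678053e25e93ca7f016b5d0d2b12fe01d009674ac97c0095846a7e54f80948e544ada8f000bb56094b55e02134ad05a24bc031684a2498a780))) (Tr.leaf (nat_lit 0x42ec9c48b24f006744802c42de008821e836243c039895023815f807352a846c9df000aa0d829119e004520d632a67c002883904c4578004ea7c13089f00095d029e111e021182411008fc0087426e801178052861c43c98f0044443021041e004319241607fc001e33a07443780)))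

noncomputable def j0 : Tr := (Tr.node (Tr.node (Tr.leaf (nat_lit 0x500400900a00013f00300400200000013400300800200000011e0050040000070001080030040020060000fd0030000000060000f20050040000060000d10030040000000000c60030000020000000b000000000000600008400000000200000007900000000000600004d00000000200000004200500400000000002c003004000000000021000000002001000000)) (Tr.leaf (nat_lit 0x50040020170008fb00500400201700077a01c01e00200600072d01c00401d00600068800f00400201b00060f00500401a00a0005c20000040190060005ac00500400900600055400500400200a00051d0030180020060005070050040020170004e60030160140060004a400301500200600048e0000040020060004570030040000060003f400f0040020130003e9))) (Tr.leaf (nat_lit 0xf0040020060003b200500400001200039c01000401100600038600f00400200000030d00f0040020060002d60000040000060002aa00300d00200e00024700000400900600023c0000040000060002050000040020060001ce0030000020000001c300300d0020000001a200300c00200600018c00500400000000017600300400b00000016b000004000006000160)))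

noncomputable def R : RTr := (RTr.node (RTr.node (RTr.node (RTr.node (RTr.node (RTr.leaf ⟨true,11,[],[],0,0,false⟩) (RTr.leaf ⟨false,22,[44,11,11,33,11,11,44,22,22],[],4,7,true⟩)) (RTr.node (RTr.leaf ⟨false,22,[33,22,44,11,44,11,44],[],3,1,true⟩) (RTr.leaf ⟨false,22,[22,44,11,11,33,11,11,44,22],[],4,8,true⟩))) (RTr.node (RTr.node (RTr.leaf ⟨false,44,[44,44],[],2,1,true⟩) (RTr.leaf ⟨false,33,[22,33,22,33,11,44,11],[],3,5,false⟩)) (RTr.node (RTr.leaf ⟨false,33,[33,33],[],2,1,false⟩) (RTr.leaf ⟨false,22,[33,11,11,11,33,22,22,44,22],[],4,4,false⟩)))) (RTr.node (RTr.node (RTr.node (RTr.leaf ⟨false,44,[33],[],1,1,false⟩) (RTr.leaf ⟨false,11,[44,22,22,22,44,11,11,33,11],[],4,1,true⟩)) (RTr.node (RTr.leaf ⟨false,22,[33,11,44,11,33,22,33],[],3,2,false⟩) (RTr.leaf ⟨false,11,[11,33,22,22,44,22,22,33,11],[],4,1,false⟩))) (RTr.node (RTr.node (RTr.leaf ⟨false,11,[44,11,44,22,33,22,44],[],3,5,true⟩) (RTr.leaf ⟨false,11,[33,22,33,22,33,11,44],[],3,6,false⟩)) (RTr.leaf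 ⟨false,44,[11,33,22,33,22,33,11],[],3,7,false⟩)))) (RTr.node (RTr.node (RTr.node (RTr.node (RTr.leaf ⟨false,22,[11],[],0,1,false⟩) (RTr.leaf ⟨false,11,[11,33,11,11,44,22,22,22,44],[],4,5,true⟩)) (RTr.node (RTr.leaf ⟨false,11,[44,22,33,22,44,11,44],[],3,3,true⟩) (RTr.leaf ⟨false,22,[22,33,11,11,11,33,22,22,44],[],4,5,false⟩))) (RTr.node (RTr.node (RTr.leaf ⟨false,11,[22],[],0,0,false⟩) (RTr.leaf ⟨false,33,[33,33],[],2,0,false⟩)) (RTr.node (RTr.leaf ⟨false,11,[44,11,33,22,33,22,33],[],3,0,false⟩) (RTr.leaf ⟨false,33,[11,44,11,33,22,33,22],[],3,1,false⟩)))) (RTr.node (RTr.node (RTr.node (RTr.leaf ⟨false,33,[44],[],1,0,false⟩) (RTr.leaf ⟨false,22,[22,44,22,22,33,11,11,11,33],[],4,8,false⟩)) (RTr.node (RTr.leaf ⟨false,33,[22,22,44,22,22,33,11,11,11],[],4,9,false⟩) (RTr.leaf ⟨false,44,[11,44,11,44,22,33,22],[],3,6,true⟩))) (RTr.node (RTr.node (RTr.leaf ⟨false,33,[11,11,44,22,22,22,44,11,11],[],4,3,true⟩) (RTr.leaf ⟨false,33,[11,11,11,33,22,22,44,22,22],[],4,3,false⟩))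 (RTr.leaf ⟨false,44,[11,11,33,11,11,44,22,22,22],[],4,6,true⟩)))))

noncomputable def D : TCD where
  N := nat_lit 48
  E := e0
  lb := nat_lit 4
  lm := nat_lit 15
  rw := nat_lit 55
  em := nat_lit 2047
  vm := nat_lit 127
  fl := nat_lit 64
  wv := nat_lit 7
  inf := nat_lit 1920
  J := j0
  jw := nat_lit 12
  jm := nat_lit 4095
  jr := nat_lit 72
  pk := nat_lit 55
  nr := nat_lit 30
  R := R
  cols := [(nat_lit 11,nat_lit 24),(nat_lit 22,nat_lit 36),(nat_lit 33,nat_lit 48),(nat_lit 44,nat_lit 60)]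
  j0 := nat_lit 12
  big := nat_lit 1000000000

def cl : List (Nat × Nat) := [(11,0),(22,1),(33,2),(44,3)]
def invs : List Nat := []
def rels : List (List Nat) := [[0,1],[2,3],[2,2,2],[0,2,1,2,1,2,0,3],[0,0,0,2,1,1,3,1,1,2]]
def subs : List (List Nat) := [[0]]
def W0 : List (List Nat) := [[0],[2]]

theorem c0 : Nat.beq (nsum2 D.val 0 1 64) 48 = true := by decide +kernel

theorem pre : tcPre D cl invs rels subs W0 64 48 = true := by decide +kernel

theorem u0 : Upto D.val 0 0 := Upto.zero _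
theorem u1 : Upto D.val 64 48 := u0.step c0 (by decide) (by decide)

theorem relIndex {G : Type*} [Group G] (g : Nat → G) (K : Subgroup G) (hinv : ∀ k ∈ invs, g k * g k = 1)
    (hrel : ∀ r ∈ rels, wprod g r = 1) (hsub : ∀ h ∈ subs, wprod g h ∈ K) :
    K.relIndex (genW g W0) ≠ 0 ∧ K.relIndex (genW g W0) ≤ 48 :=
  tc_relIndex g K D cl invs rels subs W0 _ _ hinv hrel hsub pre u1

end CfsgH7.SL27T

namespace CfsgH7.SL27

def R : List (List Nat) := [[2,2,2],[0,2,1,2,1,2,0,3],[0,0,0,2,1,1,3,1,1,2]]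
def S : List (List Nat) := [[0]]
theorem p2 : P2.{u} 2 R S 48 := fun _ _ g K hs hS =>
  have hf := hs.follows (invs := SL27T.invs) (rels := SL27T.rels) (by decide +kernel)
  SL27T.relIndex g K hf.1 hf.2 hS
noncomputable def Rf : List (List Nat) := R ++ (C7.Rf).map (substW S)
theorem pr : Pr.{u} 2 Rf 336 := Pr.step (S := S) p2 C7.pr

end CfsgH7.SL27

namespace CfsgH7.P37T

noncomputable def e0 : Tr := (Tr.node (Tr.node (Tr.leaf (nat_lit 0x1500a421c08434a2a83f00c8d48b021031ea1c5c37e01b50d0e014009c04c084fc016201060251ce9430b19f8001206540460220418087f000200410c7803ea1a00f7e0040601d041081c72001cfc00e4cc1801b00d0064105f8014286445121820410063f0008100b8c5402cc0e00afe00028207040880c026012fc0004402000f0070034103f800060a2450a181040802ff0000a040081c012008003fe001000061018014008003fc000080021000400400101f80)) (Tr.leaf (nat_lit 0xa18248412671c957ccbff0121b04950c22413a09917e0102a29f28a0244d58796fc002405285982d4cea8e5bf80713be98120692815c2aff0121c047c29922f3179967e0011ebb02961a6143ca93fc03461c1a127046baa1e51f806893aac11a1a87cc50c3f0102b891c45e055121046fe0052c49e1ce8230e44a9ffc02a6411682154cae91849f808d31a6c24408b40aca43f0049d349822c3473ae352fe0135e59c54ca2901170a6fc0045c1151aea98283e85df80)))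 (Tr.node (Tr.leaf (nat_lit 0x1969a6811431e512a653f0042530c0e7c51408a4d4fe00112522186109562c79bfc018865547af349822531df80311cab823408838ec65ff0061f54c82203372924c57e01434b245922c84060088fc01a79b50629296021de4ff8004306813550a690dcaabf0088e192821862a72d54efe002168ad1cb0a1810c7a3fc00cb010a4912d6a47cc1ff803110c20e3802f5948217f0002e6d398acc2008598d7e0020e0840169450822491fc00210058592015c88c613f80)) (Tr.leaf (nat_lit 0x2ca675f4a0a574e9c133f80))))

noncomputable def j0 : Tr := (Tr.node (Tr.node (Tr.leaf (nat_lit 0xe00d0020080001a001a00600400d00201d00019301600600000000000800018601a00600000d01900800015f00000600000000200000011e00000600400000200000010400c0000040090020000000dd0050060000000000080000d000500600400a0020000000c300500000400000200000009c00000b00400900000000008200000000000000000800007500000600400700200000006800000600400000000000004e005000004000000000000041000000004003002001000000)) (Tr.leaf (nat_lit 0x50350040090190080006e80160060130320250340006b401a02300e00d01900800063f00502000400d0020080005f102e02f00400d0190080005d701100600402c00201e0005a300500602100d00202800059601700600e00d0100080004d302d00600400d0020080004c600501b0040300020080004b901700600e00d00200800047802b00601302a02600800043700500600e00d00200800041d01800600400d00201d00041000501b02900d00201d0003f601600600400d0250080003dc)))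 (Tr.node (Tr.leaf (nat_lit 0x50060040090190080003b501f02400400a00202700039b00500601500d00200800037400500600400700201e00034001700600e00d01902700030c01800600400d03300f0002ff01a00600400d0000080002f200500602200a00201d00028a00500600403100201e00026301700600400902501d00024901400600400700201e00022f00500601300d02601d00021501c0120040000020080001e100000600e00d0020080001d401100600000d0100080001ba00500001300001900f0001ad)) (Tr.leaf (nat_lit 0x1a01200e00d0360080008fd))))

noncomputable def R : RTr := (RTr.node (RTr.node (RTr.node (RTr.node (RTr.node (RTr.node (RTr.leaf ⟨true,13,[],[],0,0,false⟩) (RTr.leaf ⟨false,52,[65,52,65,52,65],[],6,1,true⟩)) (RTr.node (RTr.leaf ⟨false,78,[26,65,13,13,65,26,78],[],8,4,false⟩) (RTr.leaf ⟨false,39,[39,39],[],3,0,false⟩))) (RTr.node (RTr.node (RTr.leaf ⟨false,39,[39,39],[],3,1,false⟩) (RTr.leaf ⟨false,52,[78,52,78,52,78],[],5,1,true⟩)) (RTr.leaf ⟨false,26,[65,13,39,78,52],[],4,2,false⟩))) (RTr.node (RTr.node (RTr.node (RTr.leaf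 ⟨false,78,[65],[],2,1,false⟩) (RTr.leaf ⟨false,26,[26,78,13,65,65,13,78],[],8,7,true⟩)) (RTr.node (RTr.leaf ⟨false,52,[65,52,65,52,65],[],6,5,true⟩) (RTr.leaf ⟨false,65,[39,65,39,65,39],[],5,5,false⟩))) (RTr.node (RTr.node (RTr.leaf ⟨false,39,[52],[],1,0,false⟩) (RTr.leaf ⟨false,78,[39,78,39,78,39],[],6,3,false⟩)) (RTr.leaf ⟨false,13,[39,65,52,26,78],[],4,3,true⟩)))) (RTr.node (RTr.node (RTr.node (RTr.node (RTr.leaf ⟨true,39,[],[],1,0,false⟩) (RTr.leaf ⟨false,65,[52,65,52,65,52],[],6,4,true⟩)) (RTr.node (RTr.leaf ⟨false,52,[26,65,13,39,78],[],4,3,false⟩) (RTr.leaf ⟨false,26,[78,78,26,65,13,13,65],[],8,6,false⟩))) (RTr.node (RTr.node (RTr.leaf ⟨false,65,[39,65,39,65,39],[],5,1,false⟩) (RTr.leaf ⟨false,78,[78,78,78,78,78,78],[],7,0,true⟩)) (RTr.leaf ⟨false,65,[26,78,78,26,65,13,13],[],8,7,false⟩))) (RTr.node (RTr.node (RTr.node (RTr.leaf ⟨false,39,[78,52,26,65,13],[],4,5,false⟩) (RTr.leaf ⟨false,13,[78,26,26,78,13,65,65],[],8,1,true⟩)) (RTr.leaf ⟨false,78,[52,78,52,78,52],[],5,4,true⟩))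 (RTr.node (RTr.node (RTr.leaf ⟨false,13,[39,78,52,26,65],[],4,0,false⟩) (RTr.leaf ⟨false,65,[13,78,26,26,78,13,65],[],8,2,true⟩)) (RTr.leaf ⟨false,78,[52,78,52,78,52],[],5,0,true⟩))))) (RTr.node (RTr.node (RTr.node (RTr.node (RTr.node (RTr.leaf ⟨false,26,[13],[],0,1,false⟩) (RTr.leaf ⟨false,52,[52,52],[],3,0,true⟩)) (RTr.node (RTr.leaf ⟨false,65,[13,39,78,52,26],[],4,1,false⟩) (RTr.leaf ⟨false,39,[78,39,78,39,78],[],6,4,false⟩))) (RTr.node (RTr.node (RTr.leaf ⟨false,39,[65,52,26,78,13],[],4,2,true⟩) (RTr.leaf ⟨false,39,[78,39,78,39,78],[],6,0,false⟩)) (RTr.leaf ⟨false,78,[13,39,65,52,26],[],4,4,true⟩))) (RTr.node (RTr.node (RTr.node (RTr.leaf ⟨false,65,[78],[],2,0,false⟩) (RTr.leaf ⟨false,26,[78,13,39,65,52],[],4,5,true⟩)) (RTr.node (RTr.leaf ⟨false,78,[78,78,78,78,78,78],[],7,5,true⟩) (RTr.leaf ⟨false,26,[78,13,65,65,13,78,26],[],8,6,true⟩))) (RTr.node (RTr.node (RTr.leaf ⟨false,52,[52,52],[],3,1,true⟩) (RTr.leaf ⟨false,78,[52,78,52,78,52],[],5,2,true⟩))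 (RTr.leaf ⟨false,13,[65,26,78,78,26,65,13],[],8,0,false⟩)))) (RTr.node (RTr.node (RTr.node (RTr.node (RTr.leaf ⟨false,52,[39],[],1,1,false⟩) (RTr.leaf ⟨false,65,[39,65,39,65,39],[],5,3,false⟩)) (RTr.node (RTr.leaf ⟨false,78,[26,26,78,13,65,65,13],[],8,0,true⟩) (RTr.leaf ⟨false,13,[65,65,13,78,26,26,78],[],8,4,true⟩))) (RTr.node (RTr.node (RTr.leaf ⟨false,78,[39,78,39,78,39],[],6,5,false⟩) (RTr.leaf ⟨false,39,[78,39,78,39,78],[],6,2,false⟩)) (RTr.leaf ⟨false,78,[78,78,78,78,78,78],[],7,4,true⟩))) (RTr.node (RTr.node (RTr.node (RTr.leaf ⟨false,13,[26],[],0,0,false⟩) (RTr.leaf ⟨false,13,[13,65,26,78,78,26,65],[],8,1,false⟩)) (RTr.leaf ⟨false,78,[39,78,39,78,39],[],6,1,false⟩)) (RTr.node (RTr.node (RTr.leaf ⟨false,26,[65,13,13,65,26,78,78],[],8,3,false⟩) (RTr.leaf ⟨false,39,[65,39,65,39,65],[],5,4,false⟩)) (RTr.leaf ⟨false,65,[65,65,65,65,65,65],[],7,5,false⟩))))))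

noncomputable def D : TCD where
  N := nat_lit 49
  E := e0
  lb := nat_lit 4
  lm := nat_lit 15
  rw := nat_lit 91
  em := nat_lit 8191
  vm := nat_lit 127
  fl := nat_lit 64
  wv := nat_lit 7
  inf := nat_lit 8064
  J := j0
  jw := nat_lit 12
  jm := nat_lit 4095
  jr := nat_lit 96
  pk := nat_lit 91
  nr := nat_lit 54
  R := R
  cols := [(nat_lit 13,nat_lit 24),(nat_lit 26,nat_lit 36),(nat_lit 39,nat_lit 48),(nat_lit 52,nat_lit 60),(nat_lit 65,nat_lit 72),(nat_lit 78,nat_lit 84)]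
  j0 := nat_lit 12
  big := nat_lit 1000000000

def cl : List (Nat × Nat) := [(13,0),(26,1),(39,2),(52,3),(65,4),(78,5)]
def invs : List Nat := []
def rels : List (List Nat) := [[0,1],[2,3],[4,5],[2,2,2],[0,4,1,3,5,2],[2,4,2,4,2,4],[2,5,2,5,2,5],[4,4,4,4,4,4,4],[0,0,4,1,5,5,1,4]]
def subs : List (List Nat) := [[0],[2]]
def W0 : List (List Nat) := [[0],[2],[4]]

theorem c0 : Nat.beq (nsum2 D.val 0 1 64) 49 = true := by decide +kernel

theorem pre : tcPre D cl invs rels subs W0 64 49 = true := by decide +kernel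

theorem u0 : Upto D.val 0 0 := Upto.zero _
theorem u1 : Upto D.val 64 49 := u0.step c0 (by decide) (by decide)

theorem relIndex {G : Type*} [Group G] (g : Nat → G) (K : Subgroup G) (hinv : ∀ k ∈ invs, g k * g k = 1)
    (hrel : ∀ r ∈ rels, wprod g r = 1) (hsub : ∀ h ∈ subs, wprod g h ∈ K) :
    K.relIndex (genW g W0) ≠ 0 ∧ K.relIndex (genW g W0) ≤ 49 :=
  tc_relIndex g K D cl invs rels subs W0 _ _ hinv hrel hsub pre u1

end CfsgH7.P37T

namespace CfsgH7.P37

def R : List (List Nat) := [[2,2,2],[0,4,1,3,5,2],[2,4,2,4,2,4],[2,5,2,5,2,5],[4,4,4,4,4,4,4],[0,0,4,1,5,5,1,4]]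
def S : List (List Nat) := [[0],[2]]
theorem p2 : P2.{u} 3 R S 49 := fun _ _ g K hs hS =>
  have hf := hs.follows (invs := P37T.invs) (rels := P37T.rels) (by decide +kernel)
  P37T.relIndex g K hf.1 hf.2 hS
noncomputable def Rf : List (List Nat) := R ++ (SL27.Rf).map (substW S)
theorem pr : Pr.{u} 3 Rf 16464 := Pr.step (S := S) p2 SL27.pr

end CfsgH7.P37

namespace CfsgH7.L37T

noncomputable def e0 : Tr := (Tr.node (Tr.node (Tr.node (Tr.leaf (nat_lit 0x206289c01a80340066103c187ff000e2800c80819109264200c4282ff000060040c017972c005c00b46897f00640e4c24016020b02065030a867f00123600ac0150103061800a40147f00004e009801284200048008c081ff00020400889060021241c0824184ff000040007c00f01020a0e007400e7f006218006c00d06080804040800cff002a300c1408080180e2a005c00b7f00260a005420302040202183800a7f0000261c040090101060a00440087f00001e0038006800c00160028080ff0000120c08201050700100404003ff000200001840200050008000c0017f00000208000800200020008000807f00)) (Tr.leaf (nat_lit 0xac777161f9a011c6696f52589bff003ec6811808d8b53147228e46a57f000234d921d24b84cc2dce119e2cff00748ed526537616e729a0469cb3ff000232fcd4037b44f7e38cd2da25ff00b8c001b808cde4abe94393a3b17f00a878e535b2602480232d86de27ff006668c865ba681190692d101b1a7f007298591cba3a046c2d804610237f00022e7da50a7316c3e8e7d1dca6ff0090a84d5491c0244022e5914ba2ff00bcda48a89970117068a01b40367f003ab24094896cc6a00d6799c08bff00022a39a301d4968a27f15440357f002e54450492094695ebe04549b4ff00246228680349d2818280451aa47f00)))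 (Tr.node (Tr.leaf (nat_lit 0x3ac2043478b93553256649878aff00bac44910c90810d32586d80f29ff0064a6490c998806400c60188086ff0034bc0430c2a982e301a58b0a967f00566aac740859a2f34aa715d58fff002c82042c9a21132264401857afff00386e55580305c5250ac4cd8085ff003822017d60fae143880042d71e7f0002140178487d4236078189c293ff008aa268dc085005d38b46960c17ff00222c04288a1805c2ab64d647997f00a4a4016c02d010a08414082a2b7f003c70016402c3d3ca64ee0640857f0000ae50e0084942a246450889917f00603868b8f0e920e02120158f0f7f0002105480a100524061530fa8927f00)) (Tr.leaf (nat_lit 0xa4b8052e1b83d6782a101bdfb7ff00c0bf25300a5604dc098f5a6f2c7f00ba88795e9296257c0c355680a27f00c4b4814ef2fe047608c05120287f00b0b0bd8df2d814398d551ab030ff003ad329aa4b54d6b9686050a9b5ff003cd40500f232f5f26824905f377f0000e204f86a14b3f908521525ae7f000264bd89e2cbe507cdee930ea1ff0050ac99993b3026502636cf6032ff006c676cd9331813106ccfd9a9297f00647299912b20263025b78eaeb1ff00409c9595835812d06c971919b07f00b85c88d1733a03044bd2128096ff00385f7d48aab5f6d30af7dac0957f00b69404a552bab6054c0c98cd177f00))))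 (Tr.node (Tr.node (Tr.leaf (nat_lit 0xaab4a008402160a34a8ac02a7f00643a042002988100e367485219ff00663c7c85615af11a27001480847f0062420144028404b009e042289eff0014160138083881e10202041aa4ff00009a041c5a0061f0c2c24580267f00009601299a400490090041db91ff00280c444838a8715020c20c8023ff00008c40bc38880450088010c0837f00204a205838b071a063e041840d7f00008420600828606103038bc020ff000c1c205048a0b405a5004140207f00020954f401f803e007a00f001dff000074041080c0f121c24383401cff003a50205c41900385c3a00dc0827f00006c2440408091b123c041048dff00)) (Tr.leaf (nat_lit 0xc2dd7db00942e415cd2b8aa1a8ff00325905c0093a1623e602d7862f7f0098a06d74d2e9c5a024d34fe7ad7f00a6de5d70b2e155b024b29a28adff00a8e0fdac09214252cb94972b2bff00c2d80492d9b1b263abb4176b36ff003886f59c091c3517a6aed34912ff00aed6048eea7bf5482e17db8c937f000244a580fb69961c6db556ce95ff004ecc5984a14a929b6a55490090ff00023e64b0a229b2b245e6154caaff00928b0141098007080b0047e3b47f00665a04790b60a39149c7cb91187f00a2494db6f30da56ba534d9408eff008c4d08cc08e423588b3117e2217f0096ba0471faa426f7ecf05b221fff00)))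 (Tr.node (Tr.leaf (nat_lit 0x9c7e044e61f504294d1154272eff00b27b2cfc034023d022720ce5907f00b47d80eab098113067d4872d337f00aa9374c2399af277846bca0089ff00aa9e28ec59ddb369c6e044eb9b7f0002257d0af9ee13ac47574c2eb27f0066c834e461c8b4e16a604485a77f003a464d14991521d022258e0a9c7f00365238c4c934f3bb46cc93c088ff000221716ae32db37b47760eca14ff005856043df25bc5982a22cd461aff006491013d1b10233021ed521198ff006acb18f21a8810f06688c7a49f7f0000ce244408713222054409438c7f00268050b479b806600ca90d00877f00021a8152f1e205e42c4854ef1d7f00)) (Tr.leaf (nat_lit 0x2d139c67b8cc719ae329c65b8ff00a6b709be02f405802a915c22387f00)))))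

noncomputable def j0 : Tr := (Tr.node (Tr.node (Tr.node (Tr.leaf (nat_lit 0x1c00600000000000002004c0000744007000000900bc00b000001100001c20000006000001c0000000009c00006cc0070018000003000b00d400a00001a4006c0000000004002c0000000000065400000000000010000000000a0000186001c0000060000002c010002800005640000000000001000f0000000000011d006c00000000040038002000000003fc0070034009000000b000000000000d200e0000002400c002c002000000002d00000048000001000b000000000000a5000000000000000000000002800002580000020009001000000080000000087001c00000240000000000000000001a40000018005001000300080010000000)) (Tr.leaf (nat_lit 0x1c05000a80040100002014800035340390094009001001900680280000d02001c04f002402f002c02600280003264007015c009001000b000805a0000c3f001c00600000040178010002800030840070000009019800b00080360000c12015404b002400c002c002009c0002fd0007012c009001000b015800a0000be5006c0080024004002c00200280002d3c0070018009001001d009800a0000b31011003c00a800c002c03100280002c100070048009001000b00000000000af5001c02d00b0004000000200280002b980070018009001000b00080000000a41001c0250024004002c0020028000279c0340094000001000b000800a000096f)))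 (Tr.node (Tr.leaf (nat_lit 0x1c006005800400dc0020028000198c0070048018001000b00080240000645010400600cc0000000000002800018d8007001802a003000b000802100005eb0144050002400400c00430028000160801b00180090010030000000a0000573001c006000001c013803a002800015180420000017001000e00080520000537001c000008c004002c002004c00014640610018009000000b0008036000050a001c0060024000002c002009c00013ec0070000000001000f006805200004dd001c00000000040088002002800013380000018009001001900080240000492006c0060058032002c000002800011d0007001802a0010022000800a0000429)) (Tr.leaf (nat_lit 0x114006002401c007400201bc0008dcc04101b8009007801f00f4036000230a00b8050005804a002c06d00280007ff8007015c06a015002900080280001fef001c0120170004003c00200280007e540420018017001002900080280001eff001c00600fc00400740260028000792c000001803f001005e000800a0001d5b001c006005c015002c00201180005f640070134009003000b000800a0001734001c03c0024004002c05f01940005c94039001802a003000b000800a0001554001c0120024004002c06700280005514042013003f012800b000800a000153601140060058066010006b00280004f380340018009001001f00e803e0001383))))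 (Tr.node (Tr.node (Tr.leaf (nat_lit 0x6002401e007c01a000000010680140018000007001d011c00a000040b001c0060024004010000000280000f7800700000000010000000806300003cf001c0000024004006401a01640000e880000018009001000f0008000000039300000000024000000000201680000d5c0390018018003000b0008000000030c00000060058000000000000280000bb802e0018020001000b000802100002df00000060024015002c02b00000000ac80140094009005403700080000000267001c0080000000000000000000000924000001802a00100290008000000022b001c006005800000ec000002800007f80000018017001000b000800a00001ef)) (Tr.leaf (nat_lit 0x1c006002401e007c05300d80004c6802e0018009003004800f400a00012a2001c00600a800c002c031018c00048300070018018003000b01600280001194001c006002401e002c002002800044e806c001802a007000b000800a000112b01100060024015002c05b00440004308034001800900bc00b000802700010b3001c04f0024004002c06b002800041640410018016001000b000800a0000f96001c006002400400ec03100280003bc40070018009000000b00080280000e97001c006002401c00740020028000396c038001805d019800b000800a0000db6001c04d0024004002c002018000035e8041001805d001000b00080210000d6b)))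 (Tr.node (Tr.leaf (nat_lit 0x188006002406400dc002002800024cc0550130000003000b00680240000924001c0060024004002c002019400024540070034009015000e000800a00009060108008002400400dc002019400023dc007015c06a007800b01a406800008d9001c0060060004002c002002800021fc034001802a001000b00080240000834010402d00b00040138002002800020580070018009001005e000800a00007e9001c006017001c00dc02600280001d4c0550018009003000b01600110000744015400d0024004002c03100280001cd400000180090010029000802400006ea001c0060024000000000200280001ab8007012c009001000b012400a0000681)) (Tr.leaf (nat_lit 0x1c04b0024066002c0100028000c4a40550130018003000b000803e000279c)))))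

noncomputable def R : RTr := (RTr.node (RTr.node (RTr.node (RTr.node (RTr.node (RTr.node (RTr.node (RTr.leaf ⟨true,15,[],[],0,0,false⟩) (RTr.leaf ⟨false,105,[90,90,45,105,45,15,60,30,30,90],[],12,7,true⟩)) (RTr.node (RTr.leaf ⟨false,15,[90,30,30,90,15,75,75],[],10,1,true⟩) (RTr.leaf ⟨false,105,[15,105,15,105,30,105,30],[],6,3,false⟩))) (RTr.node (RTr.node (RTr.leaf ⟨false,15,[75,75,15,90,30,30,90],[],10,4,true⟩) (RTr.leaf ⟨false,105,[15,90,30,105,15,15,45,90,30],[],8,6,false⟩)) (RTr.leaf ⟨false,30,[75,15,45,90,60],[],5,2,false⟩))) (RTr.node (RTr.node (RTr.node (RTr.leaf ⟨false,75,[90],[],2,0,false⟩) (RTr.leaf ⟨false,30,[30,60,105,60,30,105,30,45,105],[],7,9,true⟩)) (RTr.node (RTr.leaf ⟨false,45,[90,60,30,75,15],[],5,5,false⟩) (RTr.leaf ⟨false,30,[45,105,30,30,60,105,60,30,105],[],7,2,true⟩))) (RTr.node (RTr.node (RTr.leaf ⟨false,45,[30,90,15,90,60,90],[],11,0,true⟩) (RTr.leaf ⟨false,15,[60,30,30,90,105,90,90,45,105,45],[],12,1,true⟩)) (RTr.leaf ⟨false,105,[60,75,75,105,75,15,15,45,30,60],[],12,7,false⟩))))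 (RTr.node (RTr.node (RTr.node (RTr.node (RTr.leaf ⟨true,75,[],[],2,0,false⟩) (RTr.leaf ⟨false,105,[15,75,60,30,30,105,15,75,30],[],8,3,true⟩)) (RTr.node (RTr.leaf ⟨false,90,[30,30,90,15,75,75,15],[],10,0,true⟩) (RTr.leaf ⟨false,15,[105,30,105,30,105,15,105],[],6,0,false⟩))) (RTr.node (RTr.node (RTr.leaf ⟨false,60,[90,45,30,90,15,90],[],11,2,true⟩) (RTr.leaf ⟨false,105,[60,30,105,30,45,105,30,30,60],[],7,6,true⟩)) (RTr.leaf ⟨false,30,[90,15,45,75,60],[],5,5,true⟩))) (RTr.node (RTr.node (RTr.node (RTr.leaf ⟨false,90,[45,105,45,15,60,30,30,90,105,90],[],12,5,true⟩) (RTr.leaf ⟨false,90,[45,90,45,90,45],[],9,3,false⟩)) (RTr.node (RTr.leaf ⟨false,90,[15,75,75,15,90,30,30],[],10,5,true⟩) (RTr.leaf ⟨false,30,[90,15,75,75,15,90,30],[],10,6,true⟩))) (RTr.node (RTr.node (RTr.leaf ⟨false,45,[75,30,75,15,60,75],[],11,4,false⟩) (RTr.leaf ⟨false,75,[75,105,75,15,15,45,30,60,105,60],[],12,5,false⟩)) (RTr.leaf ⟨false,30,[75,15,15,75,30,90,90],[],10,3,false⟩))))) (RTr.node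 (RTr.node (RTr.node (RTr.node (RTr.node (RTr.leaf ⟨true,45,[],[],1,0,false⟩) (RTr.leaf ⟨false,30,[105,15,15,45,90,30,105,15,90],[],8,3,false⟩)) (RTr.node (RTr.leaf ⟨false,75,[30,105,15,75,60,30,30,105,15],[],8,5,true⟩) (RTr.leaf ⟨false,15,[45,90,30,105,15,90,30,105,15],[],8,0,false⟩))) (RTr.node (RTr.node (RTr.leaf ⟨false,15,[105,15,105,30,105,30,105],[],6,2,false⟩) (RTr.leaf ⟨false,30,[105,15,90,30,105,15,15,45,90],[],8,7,false⟩)) (RTr.leaf ⟨false,75,[15,60,75,45,75,30],[],11,1,false⟩))) (RTr.node (RTr.node (RTr.node (RTr.leaf ⟨false,45,[60],[],1,0,false⟩) (RTr.leaf ⟨false,90,[30,105,15,90,30,105,15,15,45],[],8,8,false⟩)) (RTr.node (RTr.leaf ⟨false,30,[90,15,90,60,90,45],[],11,6,true⟩) (RTr.leaf ⟨false,30,[75,15,60,75,45,75],[],11,2,false⟩))) (RTr.node (RTr.node (RTr.leaf ⟨false,105,[30,30,60,105,60,30,105,30,45],[],7,0,true⟩) (RTr.leaf ⟨false,30,[60,105,60,30,105,30,45,105,30],[],7,8,true⟩)) (RTr.leaf ⟨false,45,[15,60,30,30,90,105,90,90,45,105],[],12,2,true⟩))))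 (RTr.node (RTr.node (RTr.node (RTr.node (RTr.leaf ⟨false,105,[105],[],3,0,false⟩) (RTr.leaf ⟨false,30,[30,90,105,90,90,45,105,45,15,60],[],12,10,true⟩)) (RTr.node (RTr.leaf ⟨false,15,[15,75,30,90,90,30,75],[],10,1,false⟩) (RTr.leaf ⟨false,30,[105,15,105,15,105,30,105],[],6,4,false⟩))) (RTr.node (RTr.node (RTr.leaf ⟨false,75,[30,90,90,30,75,15,15],[],10,7,false⟩) (RTr.leaf ⟨false,90,[60,90,45,30,90,15],[],11,3,true⟩)) (RTr.leaf ⟨false,45,[75,60,30,90,15],[],5,2,true⟩))) (RTr.node (RTr.node (RTr.node (RTr.leaf ⟨false,45,[45,45],[],4,1,false⟩) (RTr.leaf ⟨false,90,[90,45,105,45,15,60,30,30,90,105],[],12,6,true⟩)) (RTr.node (RTr.leaf ⟨false,60,[30,30,105,15,75,30,105,15,75],[],8,0,true⟩) (RTr.leaf ⟨false,15,[60,75,45,75,30,75],[],11,0,false⟩))) (RTr.node (RTr.node (RTr.leaf ⟨false,45,[90,45,90,45,90],[],9,4,false⟩) (RTr.leaf ⟨false,30,[60,105,60,75,75,105,75,15,15,45],[],12,9,false⟩)) (RTr.leaf ⟨false,75,[105,75,15,15,45,30,60,105,60,75],[],12,4,false⟩))))))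 (RTr.node (RTr.node (RTr.node (RTr.node (RTr.node (RTr.node (RTr.leaf ⟨false,30,[15],[],0,1,false⟩) (RTr.leaf ⟨false,105,[30,105,30,105,15,105,15],[],6,7,false⟩)) (RTr.node (RTr.leaf ⟨false,45,[15,15,105,60,15,105,15,45,105],[],7,2,false⟩) (RTr.leaf ⟨false,105,[30,45,105,30,30,60,105,60,30],[],7,3,true⟩))) (RTr.node (RTr.node (RTr.leaf ⟨false,90,[60,30,75,15,45],[],5,4,false⟩) (RTr.leaf ⟨false,15,[15,105,60,15,105,15,45,105,45],[],7,1,false⟩)) (RTr.leaf ⟨false,60,[60,60],[],4,0,true⟩))) (RTr.node (RTr.node (RTr.node (RTr.leaf ⟨false,15,[30],[],0,0,false⟩) (RTr.leaf ⟨false,60,[105,60,30,105,30,45,105,30,30],[],7,7,true⟩)) (RTr.node (RTr.leaf ⟨false,75,[45,75,30,75,15,60],[],11,5,false⟩) (RTr.leaf ⟨false,75,[75,15,90,30,30,90,15],[],10,3,true⟩))) (RTr.node (RTr.node (RTr.leaf ⟨false,30,[30,90,15,75,75,15,90],[],10,7,true⟩) (RTr.leaf ⟨false,15,[105,15,45,105,45,15,15,105,60],[],7,7,false⟩)) (RTr.leaf ⟨false,30,[105,15,75,30,105,15,75,60,30],[],8,8,true⟩))))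 (RTr.node (RTr.node (RTr.node (RTr.node (RTr.leaf ⟨false,90,[75],[],2,1,false⟩) (RTr.leaf ⟨false,15,[15,45,90,30,105,15,90,30,105],[],8,1,false⟩)) (RTr.node (RTr.leaf ⟨false,30,[90,90,30,75,15,15,75],[],10,6,false⟩) (RTr.leaf ⟨false,60,[15,105,15,45,105,45,15,15,105],[],7,8,false⟩))) (RTr.node (RTr.node (RTr.leaf ⟨false,75,[15,45,90,60,30],[],5,1,false⟩) (RTr.leaf ⟨false,30,[105,15,75,60,30,30,105,15,75],[],8,4,true⟩)) (RTr.leaf ⟨false,15,[90,60,90,45,30,90],[],11,4,true⟩))) (RTr.node (RTr.node (RTr.node (RTr.leaf ⟨false,45,[90,30,105,15,90,30,105,15,15],[],8,9,false⟩) (RTr.leaf ⟨false,45,[105,45,15,15,105,60,15,105,15],[],7,4,false⟩)) (RTr.node (RTr.leaf ⟨false,105,[15,15,45,90,30,105,15,90,30],[],8,2,false⟩) (RTr.leaf ⟨false,90,[30,75,15,15,75,30,90],[],10,4,false⟩))) (RTr.node (RTr.node (RTr.leaf ⟨false,60,[30,75,15,45,90],[],5,3,false⟩) (RTr.leaf ⟨false,45,[30,60,105,60,75,75,105,75,15,15],[],12,10,false⟩)) (RTr.leaf ⟨false,15,[45,90,60,30,75],[],5,0,false⟩)))))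 (RTr.node (RTr.node (RTr.node (RTr.node (RTr.node (RTr.leaf ⟨false,60,[45],[],1,1,false⟩) (RTr.leaf ⟨false,105,[15,75,30,105,15,75,60,30,30],[],8,7,true⟩)) (RTr.node (RTr.leaf ⟨false,15,[45,75,60,30,90],[],5,3,true⟩) (RTr.leaf ⟨false,60,[105,60,75,75,105,75,15,15,45,30],[],12,8,false⟩))) (RTr.node (RTr.node (RTr.leaf ⟨false,105,[15,45,105,45,15,15,105,60,15],[],7,6,false⟩) (RTr.leaf ⟨false,60,[30,30,90,105,90,90,45,105,45,15],[],12,0,true⟩)) (RTr.leaf ⟨false,105,[75,15,15,45,30,60,105,60,75,75],[],12,3,false⟩))) (RTr.node (RTr.node (RTr.node (RTr.leaf ⟨false,60,[60,60],[],4,1,true⟩) (RTr.leaf ⟨false,90,[45,30,90,15,90,60],[],11,1,true⟩)) (RTr.node (RTr.leaf ⟨false,75,[15,15,75,30,90,90,30],[],10,2,false⟩) (RTr.leaf ⟨false,105,[60,15,105,15,45,105,45,15,15],[],7,9,false⟩))) (RTr.node (RTr.node (RTr.leaf ⟨false,60,[30,90,15,45,75],[],5,0,true⟩) (RTr.leaf ⟨false,75,[60,30,90,15,45],[],5,1,true⟩)) (RTr.leaf ⟨false,90,[45,90,45,90,45],[],9,1,false⟩))))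 (RTr.node (RTr.node (RTr.node (RTr.node (RTr.leaf ⟨false,90,[30,105,15,15,45,90,30,105,15],[],8,4,false⟩) (RTr.leaf ⟨false,45,[105,45,15,60,30,30,90,105,90,90],[],12,4,true⟩)) (RTr.node (RTr.leaf ⟨false,15,[75,30,90,90,30,75,15],[],10,0,false⟩) (RTr.leaf ⟨false,15,[45,105,45,15,15,105,60,15,105],[],7,5,false⟩))) (RTr.node (RTr.node (RTr.leaf ⟨false,75,[60,75,60,75,60],[],9,4,true⟩) (RTr.leaf ⟨false,30,[30,105,15,75,30,105,15,75,60],[],8,9,true⟩)) (RTr.leaf ⟨false,105,[30,105,15,105,15,105,30],[],6,5,false⟩))) (RTr.node (RTr.node (RTr.node (RTr.leaf ⟨false,30,[105,30,105,15,105,15,105],[],6,6,false⟩) (RTr.leaf ⟨false,90,[15,45,75,60,30],[],5,4,true⟩)) (RTr.leaf ⟨false,45,[45,45],[],4,0,false⟩)) (RTr.node (RTr.node (RTr.leaf ⟨false,75,[30,75,15,60,75,45],[],11,3,false⟩) (RTr.leaf ⟨false,15,[105,60,15,105,15,45,105,45,15],[],7,0,false⟩)) (RTr.leaf ⟨false,45,[105,30,30,60,105,60,30,105,30],[],7,1,true⟩)))))))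

noncomputable def D : TCD where
  N := nat_lit 114
  E := e0
  lb := nat_lit 4
  lm := nat_lit 15
  rw := nat_lit 120
  em := nat_lit 32767
  vm := nat_lit 255
  fl := nat_lit 128
  wv := nat_lit 8
  inf := nat_lit 32512
  J := j0
  jw := nat_lit 14
  jm := nat_lit 16383
  jr := nat_lit 126
  pk := nat_lit 120
  nr := nat_lit 111
  R := R
  cols := [(nat_lit 15,nat_lit 28),(nat_lit 30,nat_lit 42),(nat_lit 45,nat_lit 56),(nat_lit 60,nat_lit 70),(nat_lit 75,nat_lit 84),(nat_lit 90,nat_lit 98),(nat_lit 105,nat_lit 112)]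
  j0 := nat_lit 14
  big := nat_lit 1000000000

def cl : List (Nat × Nat) := [(15,0),(30,1),(45,2),(60,3),(75,4),(90,5),(105,6)]
def invs : List Nat := [3]
def rels : List (List Nat) := [[0,1],[2,3],[4,5],[6,7],[2,2,2],[0,4,1,3,5,2],[0,6,0,6,1,6,1,6],[0,0,2,6,2,0,6,0,3,6],[0,0,6,1,5,0,6,1,5,2],[2,5,2,5,2,5],[0,0,4,1,5,5,1,4],[0,4,1,4,2,4,3],[0,0,4,6,4,4,3,6,3,1,2]]
def subs : List (List Nat) := [[0],[2],[4]]
def W0 : List (List Nat) := [[0],[2],[4],[6]]

theorem c0 : Nat.beq (nsum2 D.val 0 2 64) 114 = true := by decide +kernel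

theorem pre : tcPre D cl invs rels subs W0 128 114 = true := by decide +kernel

theorem u0 : Upto D.val 0 0 := Upto.zero _
theorem u1 : Upto D.val 128 114 := u0.step c0 (by decide) (by decide)

theorem relIndex {G : Type*} [Group G] (g : Nat → G) (K : Subgroup G) (hinv : ∀ k ∈ invs, g k * g k = 1)
    (hrel : ∀ r ∈ rels, wprod g r = 1) (hsub : ∀ h ∈ subs, wprod g h ∈ K) :
    K.relIndex (genW g W0) ≠ 0 ∧ K.relIndex (genW g W0) ≤ 114 :=
  tc_relIndex g K D cl invs rels subs W0 _ _ hinv hrel hsub pre u1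

end CfsgH7.L37T

namespace CfsgH7.L37

def R : List (List Nat) := [[6,6],[2,2,2],[0,4,1,3,5,2],[0,6,0,6,1,6,1,6],[0,0,2,6,2,0,6,0,3,6],[0,0,6,1,5,0,6,1,5,2],[2,5,2,5,2,5],[0,0,4,1,5,5,1,4],[0,4,1,4,2,4,3],[0,0,4,6,4,4,3,6,3,1,2]]
def S : List (List Nat) := [[0],[2],[4]]
theorem p2 : P2.{u} 4 R S 114 := fun _ _ g K hs hS =>
  have hf := hs.follows (invs := L37T.invs) (rels := L37T.rels) (by decide +kernel)
  L37T.relIndex g K hf.1 hf.2 hS
noncomputable def Rf : List (List Nat) := R ++ (P37.Rf).map (substW S)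
theorem pr : Pr.{u} 4 Rf 1876896 := Pr.step (S := S) p2 P37.pr

end CfsgH7.L37

namespace CfsgH7.L37

noncomputable def n0 : Net := (Net.cons (nat_lit 32) (nat_lit 0x88ecad70) (Net.cons (nat_lit 16) (nat_lit 0x276100009c64) (Net.cons (nat_lit 8) (nat_lit 0xbe00a800d10006) (Net.cons (nat_lit 4) (nat_lit 0x50a0608090b040a) (Net.cons (nat_lit 2) (nat_lit 0x1002010023300112) (Net.cons (nat_lit 1) (nat_lit 0x4005014111510014) (Net.cons (nat_lit 2) (nat_lit 0x20200000022) (Net.cons (nat_lit 4) (nat_lit 0x40c060000020408) (Net.cons (nat_lit 8) (nat_lit 0x3600e800ae0006) (Net.cons (nat_lit 16) (nat_lit 0x2e7200009e54) (Net.cons (nat_lit 32) (nat_lit 0x89d86a58) Net.nil)))))))))))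

noncomputable def n1 : Net := (Net.cons (nat_lit 32) (nat_lit 0x793d711e) (Net.cons (nat_lit 16) (nat_lit 0x61f20000d48e) (Net.cons (nat_lit 8) (nat_lit 0x100d4002000c6) (Net.cons (nat_lit 4) (nat_lit 0x5070a060a0c0e06) (Net.cons (nat_lit 2) (nat_lit 0x332321103332132) (Net.cons (nat_lit 1) (nat_lit 0x111445415104540) (Net.cons (nat_lit 2) (nat_lit 0x222200200202020) (Net.cons (nat_lit 4) (nat_lit 0x4000a080e080804) (Net.cons (nat_lit 8) (nat_lit 0x40000e007200c2) (Net.cons (nat_lit 16) (nat_lit 0x41840000d2d4) (Net.cons (nat_lit 32) (nat_lit 0x78d041a4) Net.nil)))))))))))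

noncomputable def n2 : Net := (Net.cons (nat_lit 32) (nat_lit 0x173acae4) (Net.cons (nat_lit 16) (nat_lit 0x79b800000542) (Net.cons (nat_lit 8) (nat_lit 0x2a00c9005000f8) (Net.cons (nat_lit 4) (nat_lit 0xd0508060c020908) (Net.cons (nat_lit 2) (nat_lit 0x2131013000011000) (Net.cons (nat_lit 1) (nat_lit 0x1014414114004004) (Net.cons (nat_lit 2) (nat_lit 0x2002022020000002) (Net.cons (nat_lit 4) (nat_lit 0x80000040004080c) (Net.cons (nat_lit 8) (nat_lit 0x3c00ca00340090) (Net.cons (nat_lit 16) (nat_lit 0x6af40000ed10) (Net.cons (nat_lit 32) (nat_lit 0x174ca270) Net.nil)))))))))))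

noncomputable def n3 : Net := (Net.cons (nat_lit 32) (nat_lit 0x145654f0) (Net.cons (nat_lit 16) (nat_lit 0xcc40000c02c) (Net.cons (nat_lit 8) (nat_lit 0x60005300c500e0) (Net.cons (nat_lit 4) (nat_lit 0x2080c020c0e0e07) (Net.cons (nat_lit 2) (nat_lit 0x1322102002201031) (Net.cons (nat_lit 1) (nat_lit 0x510051500140441) (Net.cons (nat_lit 2) (nat_lit 0x20002000200020) (Net.cons (nat_lit 4) (nat_lit 0x2080e00080c0c00) (Net.cons (nat_lit 8) (nat_lit 0x60007000c400e0) (Net.cons (nat_lit 16) (nat_lit 0xcc40000c02c) (Net.cons (nat_lit 32) (nat_lit 0x145654f0) Net.nil)))))))))))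

noncomputable def l : List Net := [n0, n1, n2, n3]

theorem R0 : Rep (finPt 57) 57 (finGen 57 l) l := finRep 57 l (by decide +kernel) (by decide +kernel)

theorem tr0 : trivJ l 57 6 Rf 0 = true := by decide +kernel
theorem tr1 : trivJ l 57 6 Rf 1 = true := by decide +kernel
theorem tr2 : trivJ l 57 6 Rf 2 = true := by decide +kernel
theorem tr3 : trivJ l 57 6 Rf 3 = true := by decide +kernel
theorem tr4 : trivJ l 57 6 Rf 4 = true := by decide +kernel
theorem tr5 : trivJ l 57 6 Rf 5 = true := by decide +kernel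
theorem sat0 : Sat (finGen 57 l) Rf := finRep_sat R0 (m := 6) (by norm_num) (by
    intro j hj
    interval_cases j
    · exact tr0
    · exact tr1
    · exact tr2
    · exact tr3
    · exact tr4
    · exact tr5)

abbrev G0 : Type := PG 57 l
noncomputable abbrev g0 : Nat → G0 := pgen 57 l
def bs : List Nat := [3,0,1,2]
theorem M0 : Md (finPt 57) 57 g0 l 4 1876896 bs :=
  Md.fin' R0 pr sat0 [⟨2, [[0],[2],[4],[6]], [0,1,2,0,3,1,0,2,3], 57⟩,
  ⟨1, [[2,4,2],[2,5,5],[0,0,2,1],[0,6,5,0]], [0,1,0,1,2,1,0,3,1,0], 56⟩,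
  ⟨0, [[3,6,0,6,2],[1,5,0,6,4,0],[1,6,3,5,1,6],[3,1,1,4,1,6]], [0,1,2,0,1,3,2,0], 49⟩,
  ⟨3, [[0,3,0,0,5,3,0],[3,0,2,0,5,0,2],[0,5,6,5,6,5,3,6]], [0,1,2,1], 12⟩] 6 bs (by decide +kernel)
theorem sb0 : lall (fun w => fixesP l w bs) Rf = true := by decide +kernel
theorem mdl0 : Mdl G0 4 Rf 1876896 := M0.mdl sb0
theorem iso {G : Type u} [Group G] (h : Mdl G 4 Rf 1876896) : Nonempty (G0 ≃* G) := Mdl.iso pr mdl0 h

end CfsgH7.L37

namespace CfsgH7.L37

theorem simple : IsSimpleGroup G0 :=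
  M0.simple ⟨2, [0,1,2,0,3,1,0,2,3], 57⟩ 6 [[2,4,2],[2,5,5],[0,0,2,1],[0,6,5,0]] [⟨20, [0], [0,1,0,1,2,3,1,3,0], [0,0,0,0,1,0,0,0,0,1,0,0,2,4]⟩] 32928 (by decide +kernel) (by decide +kernel)
    [6,5,0] 19 [[],[6]] [⟨0, [[0],[2]], [0,1,0,1,0,1,0,1,0,0], 57⟩,
  ⟨1, [[1,3],[0,0,0,2,2]], [0,0,0,1,0,0,0,1,0,0,0], 56⟩,
  ⟨2, [[0,2,0,0,3,3,3,3,0],[3,0,3,1,2,2,0,0,2],[3,0,3,3,3,1,1,2,2]], [0,1,2,0,1,0,2,0,0], 49⟩,
  ⟨3, [[0,2,0,2,2,0,3,1,2,0,2],[0,0,2,1,1,2,2,0,3,1,1,3],[0,0,3,1,2,1,1,3,3,0,2,2]], [0,1,2,2], 12⟩] (by decide +kernel)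

end CfsgH7.L37

namespace CfsgH7.L37

def mdlFM : List (List (List Nat)) := [[[1,2,0],[0,1,0],[0,3,1]],
  [[1,5,0],[0,1,0],[0,4,1]],
  [[2,2,1],[0,0,2],[0,5,5]],
  [[4,2,4],[0,3,3],[0,4,0]],
  [[1,3,5],[0,1,0],[0,0,1]],
  [[1,4,2],[0,1,0],[0,0,1]],
  [[2,5,5],[4,1,2],[1,4,3]],
  [[2,5,5],[4,1,2],[1,4,3]],
  [[2,0,0],[0,2,0],[0,0,2]],
  [[4,0,0],[0,4,0],[0,0,4]],
  [[1,0,0],[0,5,4],[0,3,4]],
  [[1,0,0],[0,1,0],[0,0,1]],
  [[1,0,0],[1,4,2],[2,6,5]],
  [[1,0,0],[6,5,5],[5,1,4]],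
  [[2,2,1],[5,2,6],[3,2,6]],
  [[0,4,3],[2,2,0],[4,2,1]],
  [[6,3,6],[0,6,5],[1,2,5]],
  [[6,4,0],[5,3,5],[1,5,1]],
  [[0,6,3],[6,6,4],[2,0,4]],
  [[3,4,6],[5,1,4],[2,5,6]]]
theorem mdlFH : (arP 7).mOk 3 mdlFM = true := by decide +kernel
theorem mdlF {F : Type u} [Field F] [Fintype F] (hF : Fintype.card F = 7) : Mdl (Matrix.ProjectiveSpecialLinearGroup (Fin 3) F) 4 Rf 1876896 := by
  obtain ⟨hc, K⟩ := fldP (p := 7) (by norm_num) hF
  have hM := mdlFH
  have I := ixFin 3
  have mo := K.pick I hM [0,1,2,3] (K.has (ixFin 3) hM (K.pick (ixFin 3) hM [0,6,7,2,8,9] (K.hasSL (ixFin 3) hM hF [0,6,7,2,8,9] 7 (by decide +kernel)) (by decide +kernel))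
    [[0],[12,14],[4],[16,18]] [0,1,2,3] (by decide +kernel)) (by decide +kernel)
  exact Mdl.quot_card pr mdl0 simple (V := [[0],[2],[4],[6]]) (by
    have := Cfsg.Agent.S0243.result hF 3 (by norm_num)
    simp only [Fin.prod_univ_succ, Fin.prod_univ_zero, Fin.val_zero, Fin.val_succ] at this
    norm_num at this; exact (by omega : Nat.card (Matrix.ProjectiveSpecialLinearGroup (Fin 3) F) = 1876896))
    (K.relC I hM (inj_sl 3) mo [[],[],[],[],[8],[8],[],[],[],[8],[],[],[],[],[],[],[],[9],[8]] (by decide +kernel)) (j := 0) (by norm_num)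
    (K.nc I hM mo (t := 0) 1 10 0 1 (by decide +kernel))

end CfsgH7.L37

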