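import Cfsg.Agent.H7.Mult3
import Cfsg.Agent.H7.Mu.He
import Cfsg.Agent.S0245
import Cfsg.Agent.S0246
import Cfsg.Agent.H7.Mx4

set_option autoImplicit false
set_option maxRecDepth 100000

universe u

open scoped Pointwise

namespace CfsgH7.S44

noncomputable def n0 : Net := (Net.cons (nat_lit 48) (nat_lit 0x9fa4a24b9ccb) (Net.cons (nat_lit 24) (nat_lit 0x9fbd050000007e83a0) (Net.cons (nat_lit 12) (nat_lit 0xf400014b0000c4000156) (Net.cons (nat_lit 6) (nat_lit 0x1c00002500b03400401c03a) (Net.cons (nat_lit 3) (nat_lit 0x440001c6084147083004107) (Net.cons (nat_lit 1) (nat_lit 0x1048008009048008048001) (Net.cons (nat_lit 1) (nat_lit 0x82490092412090412090082) (Net.cons (nat_lit 1) (nat_lit 0x241048048201009048040201) (Net.cons (nat_lit 3) (nat_lit 0x100180102080006184004180) (Net.cons (nat_lit 6) (nat_lit 0x1a03000e03403c01800c012) (Net.cons (nat_lit 12) (nat_lit 0x8b4000850000264000d42) (Net.cons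 (nat_lit 24) (nat_lit 0x1d16d40000007e94f0) (Net.cons (nat_lit 48) (nat_lit 0x9fbb2d22512c) Net.nil)))))))))))))

noncomputable def n1 : Net := (Net.cons (nat_lit 48) (nat_lit 0x91db736e4897) (Net.cons (nat_lit 24) (nat_lit 0x943d040000004bc28b) (Net.cons (nat_lit 12) (nat_lit 0x8370003a2000119000020) (Net.cons (nat_lit 6) (nat_lit 0x1d02a00600002c00b00202c) (Net.cons (nat_lit 3) (nat_lit 0x400431070440400800c4042) (Net.cons (nat_lit 1) (nat_lit 0x41000000241001000001208) (Net.cons (nat_lit 1) (nat_lit 0x82092080492402002402410) (Net.cons (nat_lit 1) (nat_lit 0x241201008249209241200048) (Net.cons (nat_lit 3) (nat_lit 0x4080102000100006184004) (Net.cons (nat_lit 6) (nat_lit 0x1803202c03002c02a00001c) (Net.cons (nat_lit 12) (nat_lit 0x92600002a00073e0009a0) (Net.cons (nat_lit 24) (nat_lit 0x43bc400000049ef42) (Net.cons (nat_lit 48) (nat_lit 0x91d57fcc9824) Net.nil)))))))))))))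

noncomputable def n2 : Net := (Net.cons (nat_lit 48) (nat_lit 0x968f25e29814) (Net.cons (nat_lit 24) (nat_lit 0xfbe5aa000000518ec0) (Net.cons (nat_lit 12) (nat_lit 0x2150007b0000c21000d01) (Net.cons (nat_lit 6) (nat_lit 0x2002001302801e00a001035) (Net.cons (nat_lit 3) (nat_lit 0x41183080144103007084042) (Net.cons (nat_lit 1) (nat_lit 0x8208200240000040000040) (Net.cons (nat_lit 1) (nat_lit 0x492412480480082090082480) (Net.cons (nat_lit 1) (nat_lit 0x1241209241208241200200) (Net.cons (nat_lit 3) (nat_lit 0x6184080000084006084180) (Net.cons (nat_lit 6) (nat_lit 0x2002001202802000a000034) (Net.cons (nat_lit 12) (nat_lit 0x2100007b0000e30000540) (Net.cons (nat_lit 24) (nat_lit 0xfbe58a000000518ec0) (Net.cons (nat_lit 48) (nat_lit 0x968fa5e68814) Net.nil)))))))))))))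

noncomputable def l : List Net := [n0, n1, n2]

theorem R0 : Rep (finPt 85) 85 (finGen 85 l) l := finRep 85 l (by decide +kernel) (by decide +kernel)

theorem tr0 : trivJ l 85 7 Rf 0 = true := by decide +kernel
theorem tr1 : trivJ l 85 7 Rf 1 = true := by decide +kernel
theorem tr2 : trivJ l 85 7 Rf 2 = true := by decide +kernel
theorem tr3 : trivJ l 85 7 Rf 3 = true := by decide +kernel
theorem tr4 : trivJ l 85 7 Rf 4 = true := by decide +kernel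
theorem tr5 : trivJ l 85 7 Rf 5 = true := by decide +kernel
theorem tr6 : trivJ l 85 7 Rf 6 = true := by decide +kernel
theorem sat0 : Sat (finGen 85 l) Rf := finRep_sat R0 (m := 7) (by norm_num) (by
    intro j hj
    interval_cases j
    · exact tr0
    · exact tr1
    · exact tr2
    · exact tr3
    · exact tr4
    · exact tr5
    · exact tr6)

abbrev G0 : Type := PG 85 l
noncomputable abbrev g0 : Nat → G0 := pgen 85 l
def bs : List Nat := [3,2,1,0]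
theorem M0 : Md (finPt 85) 85 g0 l 3 979200 bs :=
  Md.fin' R0 pr sat0 [⟨0, [[0],[2],[4]], [0,1,0,2,0,1,2,1,0,2,0], 85⟩,
  ⟨1, [[0,0,2,1],[2,1,2,4],[1,3,1,3,4]], [0,1,2,0,1,0,2,0,1,1], 64⟩,
  ⟨2, [[1,2,0,2,1,3,0],[0,0,4,1,4,1,4,1]], [0,1,0,1,0,0], 15⟩,
  ⟨3, [[0,4,0,0,2,0,0,4,0,0,0,0],[2,1,4,0,0,4,0,0,0,0,3,4]], [0,1,0,1,1], 12⟩] 7 bs (by decide +kernel)
theorem sb0 : lall (fun w => fixesP l w bs) Rf = true := by decide +kernel
theorem mdl0 : Mdl G0 3 Rf 979200 := M0.mdl sb0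
theorem iso {G : Type u} [Group G] (h : Mdl G 3 Rf 979200) : Nonempty (G0 ≃* G) := Mdl.iso pr mdl0 h

end CfsgH7.S44

namespace CfsgH7.S44

theorem perf0 : commutator G0 = ⊤ := M0.perf (perf (M0.sat sb0))

end CfsgH7.S44

namespace CfsgH7.S44

theorem simple : IsSimpleGroup G0 :=
  M0.simple ⟨0, [0,1,0,2,0,1,2,1,0,2,0], 85⟩ 7 [[0,0,2,1],[2,1,2,4],[1,1,1,1,2],[1,1,4,0,0,2]] [⟨59, [0], [0,1,3,0,2,0,1,0,1,0], [0,0,0,0,0,0,2,0,0,0,0,0,0,0,0,0,0,0,0,0,0,0,0]⟩,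
  ⟨72, [2], [0,1,3,0,0,0,0], [0,0,1,0,0,2,0,0,1,0,2,0,0,1,0]⟩] 11520 (by decide +kernel) (by decide +kernel)
    [0] 17 [[],[4]] [⟨0, [[0],[2]], [0,1,0,1,0,1,0,1,0,1,0], 85⟩,
  ⟨1, [[0,0,3,3,1],[1,2,1,2,2]], [0,1,0,1,0,1,0,1,0,1,0], 64⟩,
  ⟨2, [[0,0,2,2,0,0,2],[1,2,2,0,0,0,3]], [0,1,0,1,0,0], 15⟩,
  ⟨3, [[0,2,1,2,0,0,0,3,3,3,3],[0,2,0,2,0,0,3,3,1,3,3,0]], [0,1,0,1,1], 12⟩] (by decide +kernel)

end CfsgH7.S44

namespace CfsgH7.S44

def mdlFM : List (List (List Nat)) := [[[0,2,1,3],[3,3,0,3],[2,1,1,0],[1,0,1,3]],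
  [[1,1,1,0],[0,3,3,3],[2,1,0,3],[1,0,2,3]],
  [[1,2,0,2],[1,0,3,2],[0,3,1,3],[1,3,3,1]],
  [[1,3,0,3],[3,1,2,2],[0,1,1,1],[3,3,2,0]],
  [[3,1,2,2],[2,0,2,2],[1,2,3,2],[2,0,1,0]],
  [[3,1,2,2],[2,0,2,2],[1,2,3,2],[2,0,1,0]],
  [[3,0,3,0],[1,2,1,0],[1,3,3,1],[1,0,1,3]],
  [[0,0,1,0],[0,0,0,1],[1,0,0,0],[0,1,0,0]],
  [[0,3,2,1],[2,3,1,0],[1,0,1,1],[3,3,0,3]],
  [[1,1,0,1],[2,0,3,3],[0,3,1,3],[2,2,3,1]],
  [[3,2,1,2],[1,0,2,0],[2,2,3,1],[2,2,2,0]]]
theorem mdlFH : (arQ 2 1 1).mOk 4 mdlFM = true := by decide +kernel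
theorem mdlF {F : Type u} [Field F] [Fintype F] (hF : Fintype.card F = 4) : Mdl (Matrix.symplecticGroup (Fin 2) F) 3 Rf 979200 := by
  obtain ⟨hc, θ, K⟩ := fld4 hF
  have hM := mdlFH
  have I := (ixFin 2).sum' (ixFin 2)
  have mo := K.pick I hM [0,1,2] (K.hasSp I hM (p := 2) (by norm_num) (cfQ_lt θ) [0,1,2] [8,9,10] 7 (by decide +kernel) (by decide +kernel)) (by decide +kernel)
  exact Mdl.of_card pr mdl0 simple (by
    have h1 := Cfsg.Agent.S0245.result hF 2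
    simp only [Finset.prod_range_succ, Finset.prod_range_zero] at h1
    rw [h1]; norm_num) (K.sat I hM (inj_sp 2) mo (by decide +kernel)) (j := 0) (by norm_num) fun e =>
    K.nc I hM mo (t := 0) 1 6 0 0 (by decide +kernel) (by rw [show [0] = [2 * 0] from rfl, wprod_single, e]; exact Subgroup.one_mem _)

end CfsgH7.S44

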