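import Cfsg.Agent.H7.Mult3
import Cfsg.Agent.H7.Mu.J2
import Cfsg.Agent.H7.Mult6
import Cfsg.Agent.H7.Mx5
import Cfsg.Agent.H7.Cls
import Cfsg.Agent.H7.Xs
import Cfsg.Agent.H7.Ico.Rep
import Cfsg.Agent.S1059
import Cfsg.Agent.S0280
import Cfsg.Agent.H7.Mx4

set_option autoImplicit false
set_option maxRecDepth 100000

universe u

open scoped commutatorElement

open scoped Pointwise

namespace CfsgH7.U33b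

noncomputable abbrev Rf : List (List Nat) := U33.Rf
theorem pr : Pr.{u} 2 Rf 6048 := U33.pr

end CfsgH7.U33b

namespace CfsgH7.U33b

noncomputable def n0 : Net := (Net.cons (nat_lit 16) (nat_lit 0xe777) (Net.cons (nat_lit 8) (nat_lit 0x2b001b) (Net.cons (nat_lit 4) (nat_lit 0xa0d0001) (Net.cons (nat_lit 2) (nat_lit 0x23100021) (Net.cons (nat_lit 1) (nat_lit 0x45140440) (Net.cons (nat_lit 2) (nat_lit 0x20000) (Net.cons (nat_lit 4) (nat_lit 0x8040000) (Net.cons (nat_lit 8) (nat_lit 0xe40010) (Net.cons (nat_lit 16) (nat_lit 0xef28) Net.nil)))))))))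

noncomputable def n1 : Net := (Net.cons (nat_lit 16) (nat_lit 0xa179) (Net.cons (nat_lit 8) (nat_lit 0x1d0080) (Net.cons (nat_lit 4) (nat_lit 0x70c0808) (Net.cons (nat_lit 2) (nat_lit 0x10001313) (Net.cons (nat_lit 1) (nat_lit 0x11010554) (Net.cons (nat_lit 2) (nat_lit 0x20020002) (Net.cons (nat_lit 4) (nat_lit 0x408040e) (Net.cons (nat_lit 8) (nat_lit 0xb20088) (Net.cons (nat_lit 16) (nat_lit 0xa1ec) Net.nil)))))))))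

noncomputable def l : List Net := [n0, n1]

theorem R0 : Rep (finPt 28) 28 (finGen 28 l) l := finRep 28 l (by decide +kernel) (by decide +kernel)

theorem tr0 : trivJ l 28 5 Rf 0 = true := by decide +kernel
theorem tr1 : trivJ l 28 5 Rf 1 = true := by decide +kernel
theorem tr2 : trivJ l 28 5 Rf 2 = true := by decide +kernel
theorem tr3 : trivJ l 28 5 Rf 3 = true := by decide +kernel
theorem tr4 : trivJ l 28 5 Rf 4 = true := by decide +kernel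
theorem sat0 : Sat (finGen 28 l) Rf := finRep_sat R0 (m := 5) (by norm_num) (by
    intro j hj
    interval_cases j
    · exact tr0
    · exact tr1
    · exact tr2
    · exact tr3
    · exact tr4)

abbrev G0 : Type := PG 28 l
noncomputable abbrev g0 : Nat → G0 := pgen 28 l
def bs : List Nat := [2,1,0]
theorem M0 : Md (finPt 28) 28 g0 l 2 6048 bs :=
  Md.fin' R0 pr sat0 [⟨0, [[0],[2]], [0,1,0,1,0,0,1,0], 28⟩,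
  ⟨1, [[0,0,0,2,1],[0,0,2,0,2]], [0,1,0,1,0,0,1,0], 27⟩,
  ⟨2, [[2,1,2,2,0,3],[1,1,3,0,2,1,1,3]], [0,1,1,1], 8⟩] 5 bs (by decide +kernel)
theorem sb0 : lall (fun w => fixesP l w bs) Rf = true := by decide +kernel
theorem mdl0 : Mdl G0 2 Rf 6048 := M0.mdl sb0
theorem iso {G : Type u} [Group G] (h : Mdl G 2 Rf 6048) : Nonempty (G0 ≃* G) := Mdl.iso pr mdl0 h

end CfsgH7.U33b

namespace CfsgH7.U33b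

theorem simple : IsSimpleGroup G0 :=
  M0.simple ⟨0, [0,1,0,1,0,0,1,0], 28⟩ 5 [[0,0,0,2,1],[0,0,2,0,2]] [⟨18, [0], [0,1,0,1,0,0,1,0], [0,0,0,0,0,0,1,0,0,0,0,0,0]⟩] 216 (by decide +kernel) (by decide +kernel)
    [1] 7 [[],[3]] [⟨0, [[0],[2]], [0,1,0,1,0,1,0,1,1], 28⟩,
  ⟨1, [[0,2,0],[2,0,2]], [0,1,0,1,0,1,0,1,0], 27⟩,
  ⟨2, [[1,3,1,3,1,3],[0,3,0,3,3,0,2,1]], [0,1,0,0], 8⟩] (by decide +kernel)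

end CfsgH7.U33b

namespace CfsgH7.U33b

theorem perf0 : commutator G0 = ⊤ := M0.perf (U33.perf (M0.sat sb0))

end CfsgH7.U33b

namespace CfsgH7.U33b

def mdlFM : List (List (List Nat)) := [[[2,7,6],[1,2,4],[5,1,6]],
  [[2,1,8],[4,2,1],[3,7,3]],
  [[7,3,3],[8,2,2],[0,8,4]],
  [[4,5,0],[6,2,5],[6,2,7]],
  [[1,8,1],[8,0,4],[6,7,6]],
  [[1,0,0],[0,1,0],[0,0,1]],
  [[7,3,1],[3,7,2],[2,1,7]],
  [[4,6,2],[6,4,1],[1,2,4]],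
  [[4,0,4],[2,5,1],[2,7,1]],
  [[7,2,2],[0,8,4],[7,1,1]]]
theorem mdlFH : (arQ 3 0 2).mOk 3 mdlFM = true := by decide +kernel
theorem mdlF {F : Type u} [Field F] [Fintype F] (hF : Fintype.card F = 9) : Mdl (Cfsg.PSU 3 F 3) 2 Rf 6048 := by
  obtain ⟨hc, θ, K⟩ := fld9 hF
  have : Fact (Nat.Prime 3) := ⟨by norm_num⟩
  have hM := mdlFH
  have I := ixFin 3
  have mo := K.pick I hM [0,1] (K.hasSU (ixFin 3) hM 3 1 (K.has (ixFin 3) hM (K.pick (ixFin 3) hM [0,3,4] (K.hasSL (ixFin 3) hM hF [0,3,4] 21 (by decide +kernel)) (by decide +kernel))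
    [[0],[6,8]] [0,1] (by decide +kernel)) (by decide +kernel)) (by decide +kernel)
  exact Mdl.quot_card pr mdl0 simple (V := [[0],[2]]) (by
    have := Cfsg.Agent.S0280.result (q := 3) hF 3 (by norm_num)
    simp only [Finset.prod_range_succ, Finset.prod_range_zero] at this
    norm_num [Nat.even_iff] at this; exact (by omega : Nat.card (Cfsg.PSU 3 F 3) = 6048))
    (K.relC I hM (inj_sub (inj_sl 3) (Cfsg.SU 3 F (3 ^ 1))) mo [] (by decide +kernel)) (j := 0) (by norm_num)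
    (K.nc I hM mo (t := 0) 1 4 0 0 (by decide +kernel))

end CfsgH7.U33b

namespace CfsgH7.U33b

open Subgroup in
theorem Mdl.comm {G : Type u} [Group G] {H : Type} [Group H] {k N : Nat} {R : List (List Nat)} (hP : Pr.{u} k R N)
    (hM : Mdl H k R N) (hs : IsSimpleGroup H) (hp : _root_.commutator H = ⊤) {g : Nat → G} (g1 : Nat.card G = 2 * N)
    (g2 : Sat g (R.map (substW (gensW k)))) (g3 : wprod g (wordAt (gensW k) 0) ≠ 1) : Mdl (_root_.commutator G) k R N := by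
  have mX : Mdl (genW g (gensW k)) k R N := Mdl.of_gen hP hM hs (by simpa [gensW] using subGen_gen g (gensW k))
    (subGen_sat g2) (j := 0) fun e => g3 (congrArg Subtype.val e)
  have := mX.1
  have idx : (genW g (gensW k)).index = 2 := Nat.eq_of_mul_eq_mul_right (mX.2.1 ▸ Nat.card_pos : 0 < N) (by
    rw [← g1, ← mX.2.1, index_mul_card])
  refine mX.congr (MulEquiv.subgroupCongr (le_antisymm ?_ (commutator_le.2 fun x _ y _ => ?_)))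
  · exact (perf_sub (Mdl.perf hP hM hp mX)).ge.trans (commutator_mono le_top le_top)
  · rw [commutatorElement_def, mul_mem_iff_of_index_two idx, mul_mem_iff_of_index_two idx,
      mul_mem_iff_of_index_two idx, inv_mem_iff, inv_mem_iff]
    tauto

end CfsgH7.U33b

namespace CfsgH7.U33b

def mdlXM : List (List (List Nat)) := [[[1,0,1,0,0,1,0,0,0,0,0,0,0,0],[1,1,0,1,1,1,1,1,1,0,0,1,0,0],[1,0,1,1,1,0,1,1,0,1,1,1,0,1],[1,0,0,1,1,1,1,1,0,0,1,1,1,1],[1,0,0,0,1,0,0,1,0,0,0,1,0,0],[0,1,0,0,0,1,1,1,0,1,0,1,0,1],[0,1,0,0,0,0,1,0,0,1,0,1,1,1],[0,0,1,1,1,0,1,0,1,0,0,0,0,0],[1,0,0,1,1,1,1,1,1,0,0,0,0,0],[1,0,0,0,1,0,0,1,0,1,1,1,0,1],[1,0,0,0,1,0,0,1,0,0,1,1,1,1],[0,0,0,0,0,1,0,1,0,0,0,1,0,0],[0,1,1,0,0,1,0,1,0,1,0,1,0,1],[0,1,1,0,0,1,0,0,0,1,0,1,1,1]],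
  [[1,0,1,1,0,0,0,0,0,1,1,0,0,0],[1,1,0,0,0,1,1,1,0,0,0,1,1,1],[0,0,1,1,0,1,1,0,0,1,1,0,1,1],[0,0,1,0,0,1,0,0,0,1,0,0,1,0],[1,0,1,1,1,1,1,0,0,1,1,1,1,1],[0,0,0,0,0,1,1,0,0,0,0,0,1,1],[0,0,1,1,0,0,1,0,0,1,1,0,0,1],[1,0,0,0,0,0,0,1,1,0,0,0,0,0],[1,0,0,1,1,1,1,1,0,0,1,1,1,1],[1,0,0,0,0,0,0,1,1,1,1,0,1,1],[1,1,1,1,1,0,0,1,0,0,1,0,1,0],[1,0,0,0,0,1,1,1,1,0,0,1,1,1],[1,0,0,0,0,0,0,1,1,0,0,0,1,1],[0,1,1,1,0,0,0,0,1,0,0,0,0,1]],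
  [[0,0,1,1,1,1,0,0,1,0,1,1,0,1],[1,0,1,1,1,0,1,0,1,0,1,0,0,0],[0,0,0,1,0,0,0,0,1,0,0,0,0,0],[0,1,1,1,1,0,1,0,0,0,1,0,0,1],[0,1,1,1,0,0,1,0,1,0,0,0,0,1],[0,1,1,1,1,0,0,0,1,0,1,0,0,1],[1,1,0,0,0,1,1,0,1,0,1,1,0,1],[0,1,1,0,0,0,0,0,0,0,0,0,0,1],[1,0,0,0,0,0,0,1,1,1,1,1,1,0],[0,1,1,1,0,1,0,0,1,0,0,1,0,1],[1,0,0,0,0,0,0,1,1,0,0,1,1,1],[0,1,0,0,0,1,1,1,0,1,0,1,1,0],[0,1,1,1,1,1,0,1,1,0,1,1,1,1],[1,0,0,0,0,0,0,1,1,1,1,1,0,1]],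
  [[0,0,0,1,1,0,1,0,1,1,1,1,1,0],[1,0,1,0,0,1,0,1,0,1,0,0,0,0],[0,1,1,1,0,1,1,0,1,1,1,1,1,0],[0,0,0,1,1,1,0,1,0,0,0,0,0,0],[0,1,1,1,1,1,1,1,0,1,0,0,0,0],[1,1,1,1,0,0,0,1,0,1,1,0,1,0],[0,0,1,0,1,0,0,1,0,0,0,0,0,0],[1,1,1,1,0,1,1,1,0,1,1,1,0,1],[0,0,1,1,1,1,0,1,0,0,0,0,0,0],[1,0,0,0,1,0,0,0,0,1,0,1,1,0],[0,1,0,1,1,0,1,0,0,1,0,0,0,0],[1,1,0,1,0,0,0,0,0,0,1,0,1,0],[1,1,0,1,0,0,1,0,0,0,1,1,1,1],[1,1,0,1,0,0,1,0,1,0,1,1,1,0]],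
  [[1,0,0,0,0,0,0,0,0,0,0,0,0,1],[0,1,0,0,0,0,0,0,0,0,0,0,0,0],[0,1,1,0,0,0,0,0,0,0,0,0,0,1],[0,0,0,1,0,0,0,0,1,0,0,0,0,0],[0,0,0,0,1,0,0,0,0,0,1,0,0,0],[0,0,0,0,0,1,0,0,0,0,0,1,0,0],[0,0,0,0,0,0,1,0,0,0,0,0,0,0],[0,0,0,0,0,0,0,1,0,0,0,0,1,0],[0,0,0,0,0,0,0,0,1,0,0,0,0,0],[0,0,0,0,0,0,0,0,0,1,0,0,0,0],[0,0,0,0,0,0,0,0,0,0,1,0,0,0],[0,0,0,0,0,0,0,0,0,0,0,1,0,0],[0,0,0,0,0,0,0,0,0,0,0,0,1,0],[0,0,0,0,0,0,0,0,0,0,0,0,0,1]],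
  [[1,0,0,0,0,0,0,0,0,0,0,0,0,1],[0,1,0,0,0,0,0,0,0,0,0,0,0,0],[0,1,1,0,0,0,0,0,0,0,0,0,0,1],[0,0,0,1,0,0,0,0,1,0,0,0,0,0],[0,0,0,0,1,0,0,0,0,0,1,0,0,0],[0,0,0,0,0,1,0,0,0,0,0,1,0,0],[0,0,0,0,0,0,1,0,0,0,0,0,0,0],[0,0,0,0,0,0,0,1,0,0,0,0,1,0],[0,0,0,0,0,0,0,0,1,0,0,0,0,0],[0,0,0,0,0,0,0,0,0,1,0,0,0,0],[0,0,0,0,0,0,0,0,0,0,1,0,0,0],[0,0,0,0,0,0,0,0,0,0,0,1,0,0],[0,0,0,0,0,0,0,0,0,0,0,0,1,0],[0,0,0,0,0,0,0,0,0,0,0,0,0,1]],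
  [[1,0,0,0,0,1,0,0,0,0,0,0,0,0],[0,1,0,0,0,1,0,0,0,0,0,0,0,0],[0,0,1,0,0,0,0,0,0,0,0,0,0,0],[0,0,0,1,0,0,0,0,0,0,0,0,0,0],[0,0,1,0,1,0,0,0,0,0,0,0,0,0],[0,0,0,0,0,1,0,0,0,0,0,0,0,0],[0,0,1,0,0,0,1,0,0,0,0,0,0,0],[0,0,0,0,0,0,0,1,0,0,0,0,0,0],[0,0,1,0,1,0,1,0,1,0,0,0,0,0],[0,0,0,0,0,0,0,1,0,1,0,0,0,0],[1,1,0,0,0,1,0,0,0,0,1,0,0,0],[0,0,0,0,0,0,0,1,0,0,0,1,0,0],[0,0,0,0,0,0,0,0,0,0,0,0,1,0],[0,0,0,0,0,0,0,1,0,1,0,1,0,1]],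
  [[1,0,0,0,0,1,0,0,0,0,0,0,0,0],[0,1,0,0,0,1,0,0,0,0,0,0,0,0],[0,0,1,0,0,0,0,0,0,0,0,0,0,0],[0,0,0,1,0,0,0,0,0,0,0,0,0,0],[0,0,1,0,1,0,0,0,0,0,0,0,0,0],[0,0,0,0,0,1,0,0,0,0,0,0,0,0],[0,0,1,0,0,0,1,0,0,0,0,0,0,0],[0,0,0,0,0,0,0,1,0,0,0,0,0,0],[0,0,1,0,1,0,1,0,1,0,0,0,0,0],[0,0,0,0,0,0,0,1,0,1,0,0,0,0],[1,1,0,0,0,1,0,0,0,0,1,0,0,0],[0,0,0,0,0,0,0,1,0,0,0,1,0,0],[0,0,0,0,0,0,0,0,0,0,0,0,1,0],[0,0,0,0,0,0,0,1,0,1,0,1,0,1]],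
  [[1,0,0,0,0,0,0,0,0,0,0,0,0,0],[0,1,0,0,1,0,0,0,0,0,0,0,0,0],[0,0,1,0,0,0,0,0,0,0,0,0,0,0],[0,0,0,1,0,0,0,0,0,0,0,0,0,0],[0,0,0,0,1,0,0,0,0,0,0,0,0,0],[0,0,1,0,0,1,0,0,0,0,0,0,0,0],[0,0,0,1,0,0,1,0,0,0,0,0,0,0],[0,0,0,0,0,0,0,1,0,0,0,0,0,0],[0,0,0,0,0,0,0,0,1,0,0,0,0,0],[0,0,1,0,0,0,0,0,0,1,0,0,0,0],[0,0,0,1,0,0,0,0,0,0,1,0,0,0],[1,0,0,0,1,0,0,0,0,0,0,1,0,0],[0,0,1,0,0,1,0,0,0,1,0,0,1,0],[0,0,0,1,0,0,1,0,0,0,1,0,0,1]],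
  [[1,0,0,0,0,0,0,0,0,0,0,0,0,0],[0,1,0,0,1,0,0,0,0,0,0,0,0,0],[0,0,1,0,0,0,0,0,0,0,0,0,0,0],[0,0,0,1,0,0,0,0,0,0,0,0,0,0],[0,0,0,0,1,0,0,0,0,0,0,0,0,0],[0,0,1,0,0,1,0,0,0,0,0,0,0,0],[0,0,0,1,0,0,1,0,0,0,0,0,0,0],[0,0,0,0,0,0,0,1,0,0,0,0,0,0],[0,0,0,0,0,0,0,0,1,0,0,0,0,0],[0,0,1,0,0,0,0,0,0,1,0,0,0,0],[0,0,0,1,0,0,0,0,0,0,1,0,0,0],[1,0,0,0,1,0,0,0,0,0,0,1,0,0],[0,0,1,0,0,1,0,0,0,1,0,0,1,0],[0,0,0,1,0,0,1,0,0,0,1,0,0,1]],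
  [[0,1,0,0,0,0,0,1,0,0,0,1,0,0],[1,0,1,0,0,1,0,0,0,1,0,0,1,0],[1,0,1,1,0,1,1,1,1,1,1,0,1,1],[0,0,1,1,0,1,1,0,0,1,1,0,1,1],[0,0,0,0,0,1,1,0,0,0,0,0,1,1],[1,0,0,0,1,0,0,0,0,1,1,1,1,1],[1,0,0,0,1,0,0,0,0,0,0,1,0,0],[0,1,1,0,0,1,0,1,0,1,0,1,0,1],[0,0,1,0,0,1,0,0,0,1,0,0,1,0],[0,0,0,0,0,1,0,0,0,0,0,1,1,0],[0,0,0,0,0,1,0,0,0,0,0,0,1,0],[0,0,0,0,0,0,0,0,0,1,0,0,1,0],[0,0,0,0,0,0,0,1,0,0,0,0,1,0],[0,0,0,0,0,0,0,1,0,0,0,0,0,0]]]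
theorem mdlXH : (arP 2).mOk 14 mdlXM = true := by decide +kernel
instance : NeZero Cfsg.Lie.chevG2.rank := ⟨by decide⟩
instance : NeZero Cfsg.Lie.chevG2.nroots := ⟨by decide⟩
theorem mdlX {F : Type u} [Field F] [Fintype F] (hF : Fintype.card F = 2) : Mdl (commutator (Cfsg.Lie.chevG2.group F)) 2 Rf 6048 := by
  obtain ⟨hc, K⟩ := fldP (p := 2) (by norm_num) hF
  have hM := mdlXH
  have I := ixD_ok Cfsg.Lie.chevG2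
  have mo := K.pick I hM [0,1] (K.has I hM (K.pick I hM [2,3,4] (K.hasX Cfsg.Lie.chevG2 hM (p := 2) (by norm_num) (by decide) (fun _ _ => rfl) [2,3,4] [[4,0,1],[6,8,1],[8,9,1]] (by decide +kernel)) (by decide +kernel))
    [[6,4,6,4,8,6,8,4,8,4,6,8,4],[8,4,8,4,6,4,6,4]] [0,1] (by decide +kernel)) (by decide +kernel)
  exact Mdl.comm pr mdl0 simple perf0 (by rw [Cfsg.Agent.S1059.result hF]; norm_num) (K.sat I hM (inj_sub inj_gl _) mo (by decide +kernel)) fun e =>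
    K.nc I hM mo (t := 0) 1 10 0 0 (by decide +kernel) (by rw [show [0] = wordAt (gensW 2) 0 from rfl, e]; exact Subgroup.one_mem _)

end CfsgH7.U33b

namespace CfsgH7.U33b

theorem hj : ∃ H : Subgroup Cfsg.Spor.J2, H.index = 100 ∧ (∃ (F : Type) (_ : Field F) (_ : Fintype F), Fintype.card F = 9 ∧
    Nonempty (H ≃* Cfsg.PSU 3 F 3)) ∧ ∃ c₁ c₂ : Cfsg.Spor.J2 ⧸ H, (MulAction.orbit H c₁).ncard = 36 ∧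
      (MulAction.orbit H c₂).ncard = 63 := by
  obtain ⟨e⟩ := J2m.iso Ico.mdl
  letI := MulAction.compHom (Fin 100) e.symm.toMonoidHom
  have M := J2m.M0.congr e
  have hm := M.genMdl (V := [[0], [2]]) pr mdl0 simple (by decide +kernel) 0 (by decide +kernel)
  have hK := M.stab (W := [[0], [2]]) ⟨76, [2,0,0,1,2,0,1,2,0,1,2,0,0,0], 100⟩ 7 6048 (by decide +kernel) hm.2.1.ge
  have : Fact (Nat.Prime 3) := ⟨by norm_num⟩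
  letI := Fintype.ofFinite (GaloisField 3 2)
  have h9 : Fintype.card (GaloisField 3 2) = 9 := by rw [← Nat.card_eq_fintype_card, GaloisField.card 3 2 (by norm_num)]; rfl
  refine ⟨_, ?_, ⟨_, _, _, h9, Mdl.iso pr hm (mdlF h9)⟩, (wprod (fun j => e (J2m.g0 j)) [0,4,0,0,0,4] : Cfsg.Spor.J2), (wprod (fun j => e (J2m.g0 j)) [2,1,1,4] : Cfsg.Spor.J2),
    (ncard_orbit_quot hK _ _).trans ?_, (ncard_orbit_quot hK _ _).trans ?_⟩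
  · have := (genW (fun j => e (J2m.g0 j)) [[0], [2]]).index_mul_card
    rw [hm.2.1, M.card] at this
    exact Nat.eq_of_mul_eq_mul_right (by norm_num : 0 < 6048) (this.trans (by norm_num))
  · rw [M.rep.mapsTo_act (b := 0) (by norm_num) (by decide +kernel)]
    exact M.rep.ob_ncard M.inj rfl ⟨0, [0,1,0,0,1,0,1,0,1], 36⟩ 7 (by decide +kernel)
  · rw [M.rep.mapsTo_act (b := 1) (by norm_num) (by decide +kernel)]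
    exact M.rep.ob_ncard M.inj rfl ⟨1, [0,1,0,1,0,0,1,0,1,0,1,0], 63⟩ 7 (by decide +kernel)

end CfsgH7.U33b

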