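import Cfsg.Agent.H7.Mult3
import Cfsg.Agent.H7.Li.Sm
import Cfsg.Agent.H7.Mx4
import Cfsg.Agent.S0280

set_option autoImplicit false
set_option maxRecDepth 100000

universe u

open scoped Pointwise

namespace CfsgH7

theorem fld25 {F : Type*} [Field F] [Fintype F] (h : Fintype.card F = 25) : CharP F 5 ∧ ∃ θ : F, (arQ 5 0 2).Ok (cfQ 5 θ) := by
  have := char_of_card (p := 5) (f := 2) (by norm_num) h
  obtain ⟨x, hx⟩ := (FiniteField.isSquare_two_iff (F := F)).2 (by rw [h]; norm_num)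
  refine ⟨this, x, arQ_ok 5 0 2 (by norm_num) ?_ (by decide)⟩
  push_cast
  linear_combination -hx

end CfsgH7

namespace CfsgH7.U35T

noncomputable def e0 : Tr := (Tr.node (Tr.node (Tr.leaf (nat_lit 0x420640d281a43121a53f0002444984341080230117e0042261f0420638f30205fc0042c10619e1c58c48043f80041863081841e28f1613f0051e284842410602000ffe00b1401e041862803a290fc0246803801b00d020c033f8000c245c02e01600a820bf000142891c440260820097e0050a305101020451a011fc0004001e00e006982c103f80006002c0140090408023f00101040060450a0070037e001001820028808008003fc000080021000400400101f80)) (Tr.leaf (nat_lit 0x7d6a69615b0ac04fc0bbf00c23698308c1330af5967e0184b02f81644bdc54098fc040b1f5912f856aeb812ff800950259130eaa64e34a7f000960d5bcac230a1a756fe01942d9b74e3a85b56096fc0025594eda869436c5e61f80694305424c09564db69bf00d26653025434ee27691fe0145ecad5d2ac94128031fc0224c11c10f3ca40c0d1ff8001832b9732cae6d3023bf00a204cea47564008e589fe01436d29714aa70118c15fc01875544aa24ce9a5c115f80)))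 (Tr.node (Tr.leaf (nat_lit 0x346964512471004500bff00089245122c218819245fe014446a0490268962c089fc00221234b217949841a57f80714aa842340884c9b49ff0089c4c402203368914d57e01332919017308c11079efc0205c10e1aa49580b501bf80443a26022c0870161c83f0002b015021c32e02954efe0194e0280138099742087fc0184810c7243079c3c04bf80407249010c8115d1286ff005862ca0e4103e0861467e00c3e18d3c99e1810a91afc0043c10869f1890824b39f80)) (Tr.leaf (nat_lit 0x2363131958c8c414ad28fc032b8146d306d83aa1f49f80))))

noncomputable def j0 : Tr := (Tr.node (Tr.node (Tr.leaf (nat_lit 0x500600400903101b0001ad00000600b0090000000001a000502200400901d00f00019300700600401200200000015f00500600401500201600015200501900b00900000000014500500000400900000a00013802600000000000200000011e00000600000000000a0000d000001801c0000020000000c300c00600b00900200000008f00000000000000200a00007500000000000000200000006800700600800900000000004e005006000009000000000041000000004003002001000000)) (Tr.leaf (nat_lit 0x2b02702401200202c000b1200c00600b00900201600091704000601c00903f00a0008a200503e00400900200a00084700700600803c03b03d00082000500600401300200a00081303803903700900200a0007ec00501900401300200a0007b800503400b0090330360007ab00503500400900201400079e00500600403200200000072900700600800900200a00054800000601c00900200a00051402d00e02400900202c00050702b00602401200200a00045102900602e00902800a0003a8)))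 (Tr.node (Tr.leaf (nat_lit 0x502100400900200000039b00501700401300201400037400500602a00900200a00034d00500600400900200a00031900500600b00902000a00030c02500600400902003a0002ff00502700000900201e0002e501f00600400900000a0002cb00700600b00900000a0002b10000000040090000160002a400500000000002f00a00029700500603001300200000027000c00600400900200a00024900501900402300201000022f00500e00b00900200a0001d400700602401100d01a0001ba)) (Tr.leaf (nat_lit 0x5021004042002010000d3400700600800904102c000cbf))))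

noncomputable def R : RTr := (RTr.node (RTr.node (RTr.node (RTr.node (RTr.node (RTr.node (RTr.node (RTr.leaf ⟨true,13,[],[],0,0,false⟩) (RTr.leaf ⟨false,26,[52,65,13,78,26,52,65,13,78],[],7,9,true⟩)) (RTr.leaf ⟨false,65,[26,78,39,13,65,26,78,39,13],[],7,9,false⟩)) (RTr.node (RTr.leaf ⟨false,39,[13,65,26,78,39,13,65,26,78],[],7,1,false⟩) (RTr.leaf ⟨false,26,[52,65,13,78,26,52,65,13,78],[],7,4,true⟩))) (RTr.node (RTr.node (RTr.leaf ⟨false,39,[52],[],1,0,false⟩) (RTr.leaf ⟨false,78,[13,78,39,26,52,78,39,13,39,78,26],[],10,3,true⟩)) (RTr.node (RTr.leaf ⟨false,65,[65,65],[],4,1,false⟩) (RTr.leaf ⟨false,65,[13,39,13,65,13,39,65,13,52,26,26,26],[],8,9,true⟩)))) (RTr.node (RTr.node (RTr.node (RTr.leaf ⟨false,78,[65],[],2,1,false⟩) (RTr.leaf ⟨false,78,[26,78,13,78,39,26,52,78,39,13,39],[],10,5,true⟩)) (RTr.node (RTr.leaf ⟨false,39,[39,39],[],3,0,false⟩) (RTr.leaf ⟨false,65,[39,65,39],[],5,1,false⟩))) (RTr.node (RTr.node (RTr.leaf ⟨false,26,[52,26,78,13,13,13,39,26,78,52,26,78],[],8,6,false⟩)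 (RTr.leaf ⟨false,78,[39,13,13,65,52,13,65,13,13,65,52,13],[],9,3,false⟩)) (RTr.node (RTr.leaf ⟨false,26,[65,13,65,52,26,52,65,39,13,52,65],[],10,9,false⟩) (RTr.leaf ⟨false,13,[78,39,26,52,78,39,13,39,78,26,78],[],10,2,true⟩))))) (RTr.node (RTr.node (RTr.node (RTr.node (RTr.leaf ⟨true,39,[],[],1,0,false⟩) (RTr.leaf ⟨false,39,[65,39,65],[],5,0,false⟩)) (RTr.node (RTr.leaf ⟨false,39,[65,39,65],[],5,2,false⟩) (RTr.leaf ⟨false,26,[26,26,65,13,39,13,65,13,39,65,13,52],[],8,12,true⟩))) (RTr.node (RTr.node (RTr.leaf ⟨false,52,[52,52],[],3,1,true⟩) (RTr.leaf ⟨false,78,[26,52,65,13,78,26,52,65,13],[],7,0,true⟩)) (RTr.node (RTr.leaf ⟨false,13,[65,26,78,39,13,65,26,78,39],[],7,0,false⟩) (RTr.leaf ⟨false,26,[52,13,13,13,65,26,39,78,26,39,78],[],6,4,false⟩)))) (RTr.node (RTr.node (RTr.node (RTr.leaf ⟨false,78,[78,78],[],4,1,true⟩) (RTr.leaf ⟨false,65,[26,39,78,26,39,78,26,52,13,13,13],[],6,11,false⟩)) (RTr.node (RTr.leaf ⟨false,65,[39,65,39],[],5,3,false⟩)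 (RTr.leaf ⟨false,52,[65,39,13,52,65,26,65,13,65,52,26],[],10,3,false⟩))) (RTr.node (RTr.node (RTr.leaf ⟨false,13,[13,65,52,13,78,39,13,13,65,52,13,65],[],9,8,false⟩) (RTr.leaf ⟨false,26,[78,26,39,78,26,26,52,65,26,39,78,26],[],9,4,true⟩)) (RTr.node (RTr.leaf ⟨false,78,[39,13,65,26,78,39,13,65,26],[],7,2,false⟩) (RTr.leaf ⟨false,26,[26,39,13,65,52,13,65,52,13,78,26],[],6,10,true⟩)))))) (RTr.node (RTr.node (RTr.node (RTr.node (RTr.node (RTr.node (RTr.leaf ⟨false,26,[13],[],0,1,false⟩) (RTr.leaf ⟨false,39,[78,26,52,13,13,13,65,26,39,78,26],[],6,6,false⟩)) (RTr.leaf ⟨false,65,[65,65],[],4,0,false⟩)) (RTr.node (RTr.leaf ⟨false,39,[78,26,78,13,78,39,26,52,78,39,13],[],10,6,true⟩) (RTr.leaf ⟨false,39,[26,78,52,26,78,26,52,26,78,13,13,13],[],8,12,false⟩))) (RTr.node (RTr.node (RTr.leaf ⟨false,13,[26],[],0,0,false⟩) (RTr.leaf ⟨false,52,[26,78,13,13,13,39,26,78,52,26,78,26],[],8,5,false⟩)) (RTr.node (RTr.leaf ⟨false,13,[78,26,26,26,39,13,65,52,13,65,52],[],6,1,true⟩)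 (RTr.leaf ⟨false,13,[39,65,13,52,26,26,26,65,13,39,13,65],[],8,4,true⟩)))) (RTr.node (RTr.node (RTr.node (RTr.leaf ⟨false,65,[78],[],2,0,false⟩) (RTr.leaf ⟨false,78,[78,78],[],4,0,true⟩)) (RTr.node (RTr.leaf ⟨false,13,[13,13,65,26,39,78,26,39,78,26,52],[],6,2,false⟩) (RTr.leaf ⟨false,13,[65,52,13,65,13,13,65,52,13,78,39,13],[],9,0,false⟩))) (RTr.node (RTr.node (RTr.leaf ⟨false,65,[52,13,78,26,26,26,39,13,65,52,13],[],6,3,true⟩) (RTr.leaf ⟨false,52,[78,39,13,39,78,26,78,13,78,39,26],[],10,10,true⟩)) (RTr.node (RTr.leaf ⟨false,13,[39,26,78,52,26,78,26,52,26,78,13,13],[],8,0,false⟩) (RTr.leaf ⟨false,65,[13,65,52,26,52,65,39,13,52,65,26],[],10,8,false⟩))))) (RTr.node (RTr.node (RTr.node (RTr.node (RTr.leaf ⟨false,52,[39],[],1,1,false⟩) (RTr.leaf ⟨false,52,[65,26,65,13,65,52,26,52,65,39,13],[],10,11,false⟩)) (RTr.node (RTr.leaf ⟨false,13,[52,26,26,26,65,13,39,13,65,13,39,65],[],8,1,true⟩) (RTr.leaf ⟨false,65,[26,39,78,26,26,78,26,39,78,26,26,52],[],9,9,true⟩)))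 (RTr.node (RTr.node (RTr.leaf ⟨false,78,[52,78,52],[],5,2,true⟩) (RTr.leaf ⟨false,13,[13,65,26,39,78,26,39,78,26,52,13],[],6,1,false⟩)) (RTr.node (RTr.leaf ⟨false,52,[65,13,78,26,52,65,13,78,26],[],7,8,true⟩) (RTr.leaf ⟨false,39,[26,52,78,39,13,39,78,26,78,13,78],[],10,0,true⟩)))) (RTr.node (RTr.node (RTr.node (RTr.leaf ⟨false,52,[78,52,78],[],5,3,true⟩) (RTr.leaf ⟨false,26,[39,13,65,52,13,65,52,13,78,26,26],[],6,9,true⟩)) (RTr.node (RTr.leaf ⟨false,65,[52,26,52,65,39,13,52,65,26,65,13],[],10,6,false⟩) (RTr.leaf ⟨false,78,[13,13,13,39,26,78,52,26,78,26,52,26],[],8,3,false⟩))) (RTr.node (RTr.node (RTr.leaf ⟨false,13,[65,26,39,78,26,39,78,26,52,13,13],[],6,0,false⟩) (RTr.leaf ⟨false,52,[52,52],[],3,0,true⟩)) (RTr.node (RTr.leaf ⟨false,26,[52,78,39,13,39,78,26,78,13,78,39],[],10,11,true⟩) (RTr.leaf ⟨false,78,[52,26,78,26,52,26,78,13,13,13,39,26],[],8,10,false⟩)))))))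

noncomputable def D : TCD where
  N := nat_lit 50
  E := e0
  lb := nat_lit 4
  lm := nat_lit 15
  rw := nat_lit 91
  em := nat_lit 8191
  vm := nat_lit 127
  fl := nat_lit 64
  wv := nat_lit 7
  inf := nat_lit 8064
  J := j0
  jw := nat_lit 12
  jm := nat_lit 4095
  jr := nat_lit 96
  pk := nat_lit 91
  nr := nat_lit 66
  R := R
  cols := [(nat_lit 13,nat_lit 24),(nat_lit 26,nat_lit 36),(nat_lit 39,nat_lit 48),(nat_lit 52,nat_lit 60),(nat_lit 65,nat_lit 72),(nat_lit 78,nat_lit 84)]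
  j0 := nat_lit 12
  big := nat_lit 1000000000

def cl : List (Nat × Nat) := [(13,0),(26,1),(39,2),(52,3),(65,4),(78,5)]
def invs : List Nat := []
def rels : List (List Nat) := [[0,1],[2,3],[4,5],[2,2,2],[4,4,4],[2,4,2,4],[0,0,0,3,1,5,2,1,5,2,1,4],[0,2,5,1,4,0,2,5,1,4],[0,0,0,5,1,3,1,5,1,3,5,1,2],[0,0,2,5,0,3,4,0,0,4,0,3,4],[0,2,4,3,1,3,4,0,4,1,4,3]]
def subs : List (List Nat) := [[0],[2]]
def W0 : List (List Nat) := [[0],[2],[4]]

theorem c0 : Nat.beq (nsum2 D.val 0 1 64) 50 = true := by decide +kernel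

theorem pre : tcPre D cl invs rels subs W0 64 50 = true := by decide +kernel

theorem u0 : Upto D.val 0 0 := Upto.zero _
theorem u1 : Upto D.val 64 50 := u0.step c0 (by decide) (by decide)

theorem relIndex {G : Type*} [Group G] (g : Nat → G) (K : Subgroup G) (hinv : ∀ k ∈ invs, g k * g k = 1)
    (hrel : ∀ r ∈ rels, wprod g r = 1) (hsub : ∀ h ∈ subs, wprod g h ∈ K) :
    K.relIndex (genW g W0) ≠ 0 ∧ K.relIndex (genW g W0) ≤ 50 :=
  tc_relIndex g K D cl invs rels subs W0 _ _ hinv hrel hsub pre u1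

end CfsgH7.U35T

namespace CfsgH7.U35

def R : List (List Nat) := [[2,2,2],[4,4,4],[2,4,2,4],[0,0,0,3,1,5,2,1,5,2,1,4],[0,2,5,1,4,0,2,5,1,4],[0,0,0,5,1,3,1,5,1,3,5,1,2],[0,0,2,5,0,3,4,0,0,4,0,3,4],[0,2,4,3,1,3,4,0,4,1,4,3]]
def S : List (List Nat) := [[0],[2]]
theorem p2 : P2.{u} 3 R S 50 := fun _ _ g K hs hS =>
  have hf := hs.follows (invs := U35T.invs) (rels := U35T.rels) (by decide +kernel)
  U35T.relIndex g K hf.1 hf.2 hS
noncomputable def Rf : List (List Nat) := R ++ (A7m.Rf).map (substW S)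
theorem pr : Pr.{u} 3 Rf 126000 := Pr.step (S := S) p2 A7m.pr

end CfsgH7.U35

namespace CfsgH7.U35

noncomputable def n0 : Net := (Net.cons (nat_lit 64) (nat_lit 0x6b21e4ed7ec7106f) (Net.cons (nat_lit 32) (nat_lit 0xdc11fe79000000002a2fa715) (Net.cons (nat_lit 16) (nat_lit 0xa00000003b1d00008afb00005952) (Net.cons (nat_lit 8) (nat_lit 0x850007005b005d00c8000700af00ad) (Net.cons (nat_lit 4) (nat_lit 0xa0b0a0b030b080c05050802060f0409) (Net.cons (nat_lit 2) (nat_lit 0x33232121123132121202213103332302) (Net.cons (nat_lit 1) (nat_lit 0x14051114115455111041410454414004) (Net.cons (nat_lit 2) (nat_lit 0x2000000000020000020000000000) (Net.cons (nat_lit 4) (nat_lit 0x804020000020806020e040004080008) (Net.cons (nat_lit 8) (nat_lit 0xc200060024001000d8007800e6006e) (Net.cons (nat_lit 16) (nat_lit 0x60e20000291600008bbc00001088) (Net.cons (nat_lit 32) (nat_lit 0x8075450800000000b4c06114) (Net.cons (nat_lit 64) (nat_lit 0x7bfa9d2e88ed8a0a)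 Net.nil)))))))))))))

noncomputable def n1 : Net := (Net.cons (nat_lit 64) (nat_lit 0xd538728eb33bba8a) (Net.cons (nat_lit 32) (nat_lit 0x8f21b2830000000015d13d4b) (Net.cons (nat_lit 16) (nat_lit 0x2bc70000b52c0000d9b20000ddfb) (Net.cons (nat_lit 8) (nat_lit 0xdf003400e2005800ec001400820059) (Net.cons (nat_lit 4) (nat_lit 0x20a03040b04080800060008060b0802) (Net.cons (nat_lit 2) (nat_lit 0x32013203200313322232013012232110) (Net.cons (nat_lit 1) (nat_lit 0x14454101510451414144014411154501) (Net.cons (nat_lit 2) (nat_lit 0x22202200000002202022002020000002) (Net.cons (nat_lit 4) (nat_lit 0xe080e0204020c08000000060c04080a) (Net.cons (nat_lit 8) (nat_lit 0x600020009200200066001800800058) (Net.cons (nat_lit 16) (nat_lit 0xc5840000a30a0000ced000001dce) (Net.cons (nat_lit 32) (nat_lit 0xd892ee600000000033d4072c) (Net.cons (nat_lit 64) (nat_lit 0xf870b4da1aed976c) Net.nil)))))))))))))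

noncomputable def n2 : Net := (Net.cons (nat_lit 64) (nat_lit 0xbf01bfd6f6ecf4ef) (Net.cons (nat_lit 32) (nat_lit 0xf2702a8900000000ee498b7c) (Net.cons (nat_lit 16) (nat_lit 0xecbe0000073300002236000006fd) (Net.cons (nat_lit 8) (nat_lit 0x2100c000ad00d500a9000a00f8007f) (Net.cons (nat_lit 4) (nat_lit 0xf01030e0401030f010e0d0d0309030a) (Net.cons (nat_lit 2) (nat_lit 0x31103301323021101021001221101330) (Net.cons (nat_lit 1) (nat_lit 0x11110441414445041501411044411115) (Net.cons (nat_lit 2) (nat_lit 0x2020020220200020000020020202000) (Net.cons (nat_lit 4) (nat_lit 0x20408080c0a08020c0c020808080202) (Net.cons (nat_lit 8) (nat_lit 0x94007000ac00dc00a0000000e000e4) (Net.cons (nat_lit 16) (nat_lit 0xd9740000220e0000bf5000002b78) (Net.cons (nat_lit 32) (nat_lit 0x63fa7c080000000089b39ffe) (Net.cons (nat_lit 64) (nat_lit 0xbb794b48de701818) Net.nil)))))))))))))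

noncomputable def l : List Net := [n0, n1, n2]

theorem R0 : Rep (finPt 126) 126 (finGen 126 l) l := finRep 126 l (by decide +kernel) (by decide +kernel)

theorem tr0 : trivJ l 126 7 Rf 0 = true := by decide +kernel
theorem tr1 : trivJ l 126 7 Rf 1 = true := by decide +kernel
theorem tr2 : trivJ l 126 7 Rf 2 = true := by decide +kernel
theorem tr3 : trivJ l 126 7 Rf 3 = true := by decide +kernel
theorem tr4 : trivJ l 126 7 Rf 4 = true := by decide +kernel
theorem tr5 : trivJ l 126 7 Rf 5 = true := by decide +kernel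
theorem tr6 : trivJ l 126 7 Rf 6 = true := by decide +kernel
theorem sat0 : Sat (finGen 126 l) Rf := finRep_sat R0 (m := 7) (by norm_num) (by
    intro j hj
    interval_cases j
    · exact tr0
    · exact tr1
    · exact tr2
    · exact tr3
    · exact tr4
    · exact tr5
    · exact tr6)

abbrev G0 : Type := PG 126 l
noncomputable abbrev g0 : Nat → G0 := pgen 126 l
def bs : List Nat := [2,1,0]
theorem M0 : Md (finPt 126) 126 g0 l 3 126000 bs :=
  Md.fin' R0 pr sat0 [⟨0, [[0],[2],[4]], [0,1,2,0,2,0,1,2,0,1,0], 126⟩,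
  ⟨1, [[0,5,0],[3,0,4]], [0,1,0,1,0,1,0,1,0,1,0,1], 125⟩,
  ⟨2, [[0,5,0,0,5,0],[0,5,0,5,1,5,1,3],[5,1,1,3,5,0,3,4]], [0,1,2], 8⟩] 7 bs (by decide +kernel)
theorem sb0 : lall (fun w => fixesP l w bs) Rf = true := by decide +kernel
theorem mdl0 : Mdl G0 3 Rf 126000 := M0.mdl sb0
theorem iso {G : Type u} [Group G] (h : Mdl G 3 Rf 126000) : Nonempty (G0 ≃* G) := Mdl.iso pr mdl0 h

end CfsgH7.U35

namespace CfsgH7.U35

theorem simple : IsSimpleGroup G0 :=
  M0.simple ⟨0, [0,1,2,0,2,0,1,2,0,1,0], 126⟩ 7 [[0,5,0],[3,0,4]] [⟨20, [0], [0,1,0,1,0,1,0,1,0,1,0,0,0,1], [0,0,0,0,1,0,2,0,0,0,0,1,0,0,0,0]⟩] 1000 (by decide +kernel) (by decide +kernel)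
    [1] 7 [[],[4]] [⟨0, [[0],[2]], [0,1,0,1,0,1,0,1,0,1,0,1], 126⟩,
  ⟨1, [[0,0,2,2,2,1],[0,3,1,2,0,3]], [0,1,0,1,0,1,0,1,0,1,0,1], 125⟩,
  ⟨2, [[0,2,2,2,0,2,2,1,3,1,2]], [0,0,0,0,0,0,0], 8⟩] (by decide +kernel)

end CfsgH7.U35

namespace CfsgH7.U35

def mdlFM : List (List (List Nat)) := [[[23,0,24],[11,9,9],[1,10,5]],
  [[8,16,1],[0,24,15],[9,24,20]],
  [[0,4,0],[0,0,4],[1,0,0]],
  [[0,0,1],[4,0,0],[0,4,0]],
  [[21,19,24],[6,14,2],[16,0,20]],
  [[6,21,11],[14,19,0],[9,2,5]],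
  [[17,0,0],[0,17,0],[0,0,17]],
  [[12,0,0],[0,12,0],[0,0,12]],
  [[9,9,19],[10,5,4],[0,6,23]],
  [[1,0,0],[0,1,0],[0,0,1]],
  [[1,7,16],[9,13,4],[13,11,23]],
  [[1,24,18],[22,18,16],[11,4,8]],
  [[18,4,6],[16,8,12],[8,19,1]],
  [[13,11,23],[4,23,14],[21,17,1]],
  [[7,4,16],[14,15,13],[4,16,10]],
  [[22,19,4],[4,10,11],[11,18,15]],
  [[8,10,8],[16,4,22],[4,20,15]],
  [[23,11,4],[15,4,5],[23,7,10]]]
theorem mdlFH : (arQ 5 0 2).mOk 3 mdlFM = true := by decide +kernel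
theorem mdlF {F : Type u} [Field F] [Fintype F] (hF : Fintype.card F = 25) : Mdl (Cfsg.PSU 3 F 5) 3 Rf 126000 := by
  obtain ⟨hc, θ, K⟩ := fld25 hF
  have : Fact (Nat.Prime 5) := ⟨by norm_num⟩
  have hM := mdlFH
  have I := ixFin 3
  have mo := K.pick I hM [0,1,2] (K.hasSU (ixFin 3) hM 5 1 (K.has (ixFin 3) hM (K.pick (ixFin 3) hM [0,5,6,7,8] (K.hasSL (ixFin 3) hM hF [0,5,6,7,8] 7 (by decide +kernel)) (by decide +kernel))
    [[0],[10,12],[14,16]] [0,1,2] (by decide +kernel)) (by decide +kernel)) (by decide +kernel)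
  exact Mdl.quot_card pr mdl0 simple (V := [[0],[2],[4]]) (by
    have := Cfsg.Agent.S0280.result (q := 5) hF 3 (by norm_num)
    simp only [Finset.prod_range_succ, Finset.prod_range_zero] at this
    norm_num [Nat.even_iff] at this; exact (by omega : Nat.card (Cfsg.PSU 3 F 5) = 126000))
    (K.relC I hM (inj_sub (inj_sl 3) (Cfsg.SU 3 F (5 ^ 1))) mo [[],[],[6],[],[],[7],[7],[6],[],[7]] (by decide +kernel)) (j := 0) (by norm_num)
    (K.nc I hM mo (t := 0) 1 8 0 0 (by decide +kernel))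

end CfsgH7.U35

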